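import Cfsg.Agent.Lib.Steinberg.Values
import Cfsg.Agent.Lib.ChevBorelTits.Sylow

/-!
Steinberg's count of the p-elements of a Chevalley group: q^(2N).
-/

set_option autoImplicit false
set_option linter.unusedSectionVars false
set_option linter.style.haveILetI false

namespace Cfsg.Agent.Lib.Steinberg

open Cfsg.Lie Cfsg.Agent.Lib.ChevStructure
open scoped MatrixGroups Classical

variable {D : ChevalleyDatum} {C : Core D} {F : Type*} [Field F]
variable {K M J : Set (Fin D.rank)} {d σ : Equiv.Perm (Rt D)} {g : ↥(D.group F)}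

/-- Elements of p-power order. -/
def pElt (p : ℕ) (g : ↥(D.group F)) : Prop := ∃ k : ℕ, g ^ p ^ k = 1

theorem pElt_conj {p : ℕ} {g : ↥(D.group F)} (h : pElt p g) (a : ↥(D.group F)) :
    pElt p (a * g * a⁻¹) := by
  obtain ⟨k, hk⟩ := h
  exact ⟨k, by rw [conj_pow, hk, mul_one, mul_inv_cancel]⟩

/-- Lengths add on W^M × W_M. -/
theorem len_mul_WK (hd : d ∈ C.WG) (hpos : ∀ m ∈ M, d (C.p m) ∈ C.Pos) :
    ∀ w ∈ WK C M, C.len (d * w) = C.len d + C.len w := by
  refine WK_induction (fun w => C.len (d * w) = C.len d + C.len w)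
    (by rw [mul_one, C.len_one, add_zero]) ?_
  intro w hw k hk hneg ih
  have h1 := len_mul_sref_neg (WK_le_WG hw) hneg
  have h2 : (d * w) (C.p k) ∈ C.Neg := by
    rw [Equiv.Perm.mul_apply]
    have := pos_on_PhiK hd hpos _ (C.rev_pos hneg) (PhiK_rev ((WK_PhiK hw).2 (p_mem_PhiK hk)))
    rw [wg_rev hd] at this
    have := C.rev_neg this
    rwa [C.rev_rev] at this
  have h3 := len_mul_sref_neg (mul_mem hd (WK_le_WG hw)) h2
  rw [mul_assoc] at h3
  omega

theorem inv'_longK_inv : C.inv' (longK C J)⁻¹ = {r | r ∈ C.Pos ∧ r ∈ PhiK C J} := by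
  ext r
  refine ⟨fun h => ⟨h.1, ?_⟩, fun h => ⟨h.1, longK_inv_neg h.1 h.2⟩⟩
  by_contra hn
  exact (C.neg_iff_not_pos _).1 h.2 (WK_pos (inv_mem longK_mem) h.1 hn).1

theorem len_longK_add : C.len (longK C J) + (radK C J).ncard = D.nroots / 2 := by
  rw [← len_inv (WK_le_WG longK_mem), Core.len, inv'_longK_inv, ← C.card_pos,
    Nat.card_coe_set_eq, ← Set.ncard_union_eq]
  · congr 1
    ext r
    refine ⟨?_, fun h => ?_⟩
    · rintro (h | h) <;> exact h.1
    · by_cases hr : r ∈ PhiK C J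
      · exact Or.inl ⟨h, hr⟩
      · exact Or.inr ⟨h, hr⟩
  · rw [Set.disjoint_left]
    exact fun r h1 h2 => h2.2 h1.2

variable (H : CommOK C) [Finite F]
include H

theorem card_uG_radK : Nat.card ↥(uG C F (radK C J)) = Nat.card F ^ (radK C J).ncard := by
  rw [Nat.card_congr (Subgroup.subgroupOfEquivOfLe (C.US_le_group (radK C J))).toEquiv]
  refine H.card_US (fun r hr => hr.1) fun r hr s hs q i j hi hj hv => ⟨?_, fun h => hr.2 ?_⟩
  · rw [C.pos_iff_ht, C.ht_combo hv]
    have h1 := C.ht_pos hr.1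
    have h2 := C.ht_pos hs.1
    have hi' : (1 : ℤ) ≤ (i : ℤ) := by exact_mod_cast hi
    have hj' : (1 : ℤ) ≤ (j : ℤ) := by exact_mod_cast hj
    nlinarith
  · refine PhiK_iff.2 fun m hm => ?_
    have h3 := PhiK_iff.1 (show q ∈ PhiK C J from h) m hm
    rw [hv] at h3
    simp only [Pi.add_apply, Pi.smul_apply, smul_eq_mul] at h3
    have h1 := C.v_nonneg hr.1 m
    have h2 := C.v_nonneg hs.1 m
    have hi' : (1 : ℤ) ≤ (i : ℤ) := by exact_mod_cast hi
    have hj' : (0 : ℤ) ≤ (j : ℤ) := Int.natCast_nonneg j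
    nlinarith

omit H [Finite F] in
theorem fix_of_conj {v : ↥(D.group F)}
    (h : (nEl C F d)⁻¹ * v * nEl C F d ∈ borG F C) : v • pt C F M d = pt C F M d := by
  rw [pt, MulAction.Quotient.smul_mk, QuotientGroup.eq, smul_eq_mul]
  have := borG_le_parG (K := M) (inv_mem h)
  convert this using 1
  group

omit [Finite F] in
/-- B = (inversion part)(stabiliser part). -/
theorem borel_split (hd : d ∈ C.WG) {b : ↥(D.group F)} (hb : b ∈ borG F C) :
    ∃ a ∈ uG C F (C.inv' d⁻¹), ∃ v ∈ uG C F ({r | d⁻¹ r ∈ C.Pos} ∩ C.Pos),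
      ∃ k : ↥(D.group F), (k : GL D.Idx F) ∈ D.diagonalSubgroup F ∧ b = a * (v * k) ∧
        (v * k) • pt C F M d = pt C F M d := by
  obtain ⟨u, hu, k, hk, e⟩ := C.mem_borel_iff.1 hb
  obtain ⟨a, ha, v, hv, rfl⟩ := H.exists_factor (A := {r | d⁻¹ r ∈ C.Neg})
    (S := {r | d⁻¹ r ∈ C.Pos}) (fun r _ => (em (d⁻¹ r ∈ C.Pos)).elim Or.inr fun h => Or.inl ((C.neg_iff_not_pos _).2 h)) hu
  have ha' : a ∈ C.US F (C.inv' d⁻¹) := C.US_mono F (fun r hr => (⟨hr.2, hr.1⟩ : r ∈ C.inv' d⁻¹)) ha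
  have hvG : v ∈ D.group F := C.US_le_group _ hv
  have hkG : k ∈ D.group F := C.diagonal_le_group hk
  refine ⟨⟨a, C.US_le_group _ ha'⟩, ha', ⟨v, hvG⟩, hv, ⟨k, hkG⟩, hk,
    Subtype.ext (e.trans (mul_assoc a v k)), fix_of_conj ?_⟩
  have h1 : (nEl C F d : GL D.Idx F)⁻¹ * v * (nEl C F d : GL D.Idx F)⁻¹⁻¹ ∈ D.borelSubgroup F :=
    C.posUS_le_borel (C.conj_mem_US F (C.acts_inv F (acts_nEl hd)) (fun r hr => hr.1) hv)
  have h2 : (nEl C F d : GL D.Idx F)⁻¹ * k * (nEl C F d : GL D.Idx F)⁻¹⁻¹ ∈ D.borelSubgroup F :=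
    C.diagonal_le_borel (C.conj_diagonal (inv_mem (nEl_monomial d)) hk)
  show (nEl C F d : GL D.Idx F)⁻¹ * (v * k) * (nEl C F d : GL D.Idx F) ∈ D.borelSubgroup F
  have h3 := mul_mem h1 h2
  generalize (nEl C F d : GL D.Idx F) = n at h3 ⊢
  have e3 : n⁻¹ * (v * k) * n = n⁻¹ * v * n⁻¹⁻¹ * (n⁻¹ * k * n⁻¹⁻¹) := by group
  rw [e3]
  exact h3

omit [Finite F] in
/-- The inversion part acts freely. -/
theorem inv_free (hd : IsRed C ∅ M d) {a : ↥(D.group F)} (ha : a ∈ uG C F (C.inv' d⁻¹))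
    (hfix : a • pt C F M d = pt C F M d) : a = 1 := by
  have hB : a ∈ borG F C := C.posUS_le_borel (C.US_mono F (fun _ hr => hr.1) ha)
  have h1 := stab_borel H hd hB hfix
  set n := (nEl C F d : GL D.Idx F) with hn
  have h2 : n⁻¹ * (a : GL D.Idx F) * n⁻¹⁻¹ ∈ C.US F C.Neg :=
    C.conj_mem_US F (C.acts_inv F (acts_nEl hd.1)) (fun r hr => hr.2) ha
  have h3 : n⁻¹ * (a : GL D.Idx F) * n⁻¹⁻¹ ∈ D.borelSubgroup F := by
    rw [inv_inv]; exact h1
  have h4 : n⁻¹ * (a : GL D.Idx F) * n⁻¹⁻¹ = 1 := by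
    rw [← Subgroup.mem_bot, ← C.borel_inf_negUS]
    exact ⟨h3, h2⟩
  apply Subtype.ext
  rwa [inv_inv, mul_eq_one_iff_eq_inv, inv_mul_eq_iff_eq_mul, mul_inv_cancel] at h4

/-- A Bruhat cell has q^len points. -/
theorem ncard_orb (hd : IsRed C ∅ M d) :
    (Orb C F ∅ M d).ncard = Nat.card F ^ C.len d := by
  have himage : (fun a => a • pt C F M d) '' (uG C F (C.inv' d⁻¹) : Set ↥(D.group F)) =
      Orb C F ∅ M d := by
    ext x
    constructor
    · rintro ⟨a, ha, rfl⟩
      exact ⟨a, borG_le_parG (show a ∈ borG F C from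
        C.posUS_le_borel (C.US_mono F (fun _ hr => hr.1) ha)), rfl⟩
    · rintro ⟨b, hb, rfl⟩
      rw [parG_empty] at hb
      obtain ⟨a, ha, v, -, k, -, rfl, hfix⟩ := borel_split H (M := M) hd.1 hb
      refine ⟨a, ha, ?_⟩
      show a • pt C F M d = (a * (v * k)) • pt C F M d
      rw [mul_smul a, hfix]
  rw [← himage, Set.InjOn.ncard_image, ← Nat.card_coe_set_eq]
  · rw [← len_inv hd.1]
    exact (Nat.card_congr
      (Subgroup.subgroupOfEquivOfLe (C.US_le_group (C.inv' d⁻¹))).toEquiv).trans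
      (H.card_US_inv' ⟨d⁻¹, inv_mem hd.1⟩)
  · intro a ha c hc e
    have h := inv_free H hd (mul_mem (inv_mem hc) ha)
      (by rw [mul_smul, show a • pt C F M d = c • pt C F M d from e, inv_smul_smul])
    rw [inv_mul_eq_one] at h
    exact h.symm

omit H [Finite F] in
theorem longK_red : IsRed C ∅ (∅ : Set (Fin D.rank)) (longK C J) :=
  ⟨WK_le_WG longK_mem, fun _ h => absurd h (Set.notMem_empty _),
    fun _ h => absurd h (Set.notMem_empty _)⟩

/-- The fixed points of a p-element of B on the long cell of P_J/B. -/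
theorem orbFix_long (p : ℕ) [Fact p.Prime] [CharP F p] {b : ↥(D.group F)} (hb : b ∈ borG F C)
    (hp : pElt p b) :
    (OrbFix C F ∅ ∅ (longK C J) b).ncard =
      if b ∈ uG C F (radK C J) then Nat.card F ^ C.len (longK C J) else 0 := by
  haveI : Fintype F := Fintype.ofFinite F
  set d := longK C J with hdd
  have hS : ∀ r : Rt D, r ∈ ({r | d⁻¹ r ∈ C.Pos} ∩ C.Pos : Set (Rt D)) ↔ r ∈ radK C J := by
    intro r
    refine ⟨fun h => ⟨h.2, fun hK => ?_⟩, fun h => ⟨(WK_pos (inv_mem longK_mem) h.1 h.2).1, h.1⟩⟩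
    exact (C.neg_iff_not_pos _).1 (longK_inv_neg h.2 hK) h.1
  have hbase : ∀ v ∈ uG C F (radK C J), v • pt C F ∅ d = pt C F ∅ d := by
    intro v hv
    refine fix_of_conj ?_
    show ((nEl C F d)⁻¹ * v * nEl C F d : ↥(D.group F)).1 ∈ D.borelSubgroup F
    have h1 := C.posUS_le_borel (C.conj_mem_US F (C.acts_inv F (acts_nEl (WK_le_WG longK_mem)))
      (fun r hr => ((hS r).2 hr).1) hv)
    simpa [hdd] using h1
  have hconj : ∀ c ∈ borG F C, b ∈ uG C F (radK C J) ↔ c⁻¹ * b * c ∈ uG C F (radK C J) := by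
    intro c hc
    have hcP : c ∈ parG F C J := borG_le_parG hc
    refine ⟨fun h => ?_, fun h => ?_⟩
    · simpa using parG_normalizes H (inv_mem hcP) h
    · have := parG_normalizes H hcP h
      convert this using 1
      group
  by_cases hbU : b ∈ uG C F (radK C J)
  · rw [if_pos hbU, ← ncard_orb H (F := F) (longK_red (C := C) (J := J))]
    congr 1
    ext x
    refine ⟨fun h => h.1, fun h => ⟨h, ?_⟩⟩
    obtain ⟨c, hc, rfl⟩ := h
    rw [parG_empty] at hc
    have := hbase _ ((hconj c hc).1 hbU)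
    rw [mul_smul, mul_smul, inv_smul_eq_iff] at this
    exact this
  · rw [if_neg hbU, Set.ncard_eq_zero]
    refine Set.eq_empty_of_forall_notMem ?_
    rintro x ⟨⟨c, hc, rfl⟩, hfix⟩
    rw [parG_empty] at hc
    apply hbU
    refine (hconj c hc).2 ?_
    have hcfix : (c⁻¹ * b * c) • pt C F ∅ d = pt C F ∅ d := by
      rw [mul_smul, mul_smul, hfix, inv_smul_smul]
    obtain ⟨a, ha, v, hv, k, hk, e, hvk⟩ := borel_split H (M := ∅) (WK_le_WG longK_mem)
      (mul_mem (mul_mem (inv_mem hc) hb) hc)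
    rw [e, mul_smul a, hvk] at hcfix
    have ha1 := inv_free H longK_red ha hcfix
    rw [ha1, one_mul] at e
    have hv' : v ∈ uG C F (radK C J) := C.US_mono F (fun r hr => (hS r).1 hr) hv
    obtain ⟨i, hi⟩ := pElt_conj hp c⁻¹
    rw [inv_inv, e] at hi
    -- the diagonal part has p-power order, hence is trivial
    have hkP : k ∈ parG F C J := borG_le_parG (diag_mem_borG hk)
    have hpow : ∀ n : ℕ, (v * k) ^ n * (k ^ n)⁻¹ ∈ uG C F (radK C J) := by
      intro n
      induction n with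
      | zero => simp [one_mem]
      | succ n ih =>
        have e' : (v * k) ^ (n + 1) * (k ^ (n + 1))⁻¹ =
            (v * k) ^ n * (k ^ n)⁻¹ * (k ^ n * v * (k ^ n)⁻¹) := by
          rw [pow_succ, pow_succ]; group
        rw [e']
        exact mul_mem ih (parG_normalizes H (pow_mem hkP n) hv')
    have h1 := hpow (p ^ i)
    rw [hi, one_mul, Subgroup.inv_mem_iff] at h1
    have hk1 : (k : GL D.Idx F) ^ p ^ i = 1 := by
      rw [← Subgroup.mem_bot, ← C.US_inf_diagonal]
      exact ⟨C.US_mono F (fun r hr => hr.1) h1, pow_mem hk _⟩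
    have hk0 : k = 1 := Subtype.ext (ChevBorelTits.eq_one_of_mem_diag C F p hk hk1)
    rw [e, hk0, mul_one]
    exact hv'

/-- The points of P_J/P_M. -/
theorem ncard_XJ (J M : Finset (Fin D.rank)) (hMJ : M ⊆ J) :
    (XJ C F (J : Set (Fin D.rank)) (M : Set (Fin D.rank))).ncard =
      ∑ d ∈ (Finset.univ.filter fun d : Equiv.Perm (Rt D) =>
        IsRed C ∅ (M : Set (Fin D.rank)) d ∧ d ∈ WK C (J : Set (Fin D.rank))),
        Nat.card F ^ C.len d := by
  set Js : Set (Fin D.rank) := (J : Set (Fin D.rank)) with hJs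
  have hMs : (M : Set (Fin D.rank)) ⊆ Js := Finset.coe_subset.2 hMJ
  rw [ncard_eq_sum H ∅ (M : Set (Fin D.rank)) _ (Finset.univ.filter fun d : Equiv.Perm (Rt D) =>
      IsRed C ∅ (M : Set (Fin D.rank)) d ∧ d ∈ WK C Js)
      (fun d hd => (Finset.mem_filter.1 hd).2.1) ?_]
  · refine Finset.sum_congr rfl fun d hd => ?_
    obtain ⟨hd1, hd2⟩ := (Finset.mem_filter.1 hd).2
    rw [← ncard_orb H hd1]
    congr 1
    ext x
    refine ⟨fun h => h.2, fun h => ⟨?_, h⟩⟩
    obtain ⟨q, hq, rfl⟩ := h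
    exact ⟨q * nEl C F d, mul_mem (parG_mono (Set.empty_subset _) hq) (nEl_mem_parG hd2),
      (MulAction.Quotient.smul_mk _ q (nEl C F d)).symm⟩
  · rintro x ⟨q, hq, rfl⟩ d hd hx
    refine Finset.mem_filter.2 ⟨Finset.mem_univ _, hd, ?_⟩
    obtain ⟨u, hu, v, hv, hcell⟩ := orb_cell H hd.1 hx
    obtain ⟨w, hw, hcw⟩ := (mem_parG_iff H).1 hq
    have e := cell_unique H (mul_mem (mul_mem (WK_le_WG hu) hd.1) (WK_le_WG hv)) (WK_le_WG hw)
      hcell hcw
    rw [show d = u⁻¹ * (u * d * v) * v⁻¹ by group, e]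
    exact mul_mem (mul_mem (inv_mem (WK_mono (Set.empty_subset _) hu)) hw)
      (inv_mem (WK_mono hMs hv))

/-- The alternating sum of |P_J/P_M| q^(N_M). -/
theorem alt_XJ (J : Finset (Fin D.rank)) :
    ∑ M ∈ J.powerset, (-1 : ℤ) ^ M.card *
      (((XJ C F (J : Set (Fin D.rank)) (M : Set (Fin D.rank))).ncard *
        Nat.card F ^ C.len (longK C (M : Set (Fin D.rank))) : ℕ) : ℤ) = 1 := by
  set Js : Set (Fin D.rank) := (J : Set (Fin D.rank)) with hJs
  set T : Finset (Fin D.rank) → Finset (Equiv.Perm (Rt D)) := fun M =>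
    Finset.univ.filter fun x => x ∈ WK C Js ∧ ∀ m ∈ M, x (C.p m) ∈ C.Neg with hT
  have hterm : ∀ M ∈ J.powerset,
      ((XJ C F Js (M : Set (Fin D.rank))).ncard *
        Nat.card F ^ C.len (longK C (M : Set (Fin D.rank))) : ℕ) =
      ∑ x ∈ T M, Nat.card F ^ C.len x := by
    intro M hM
    rw [Finset.mem_powerset] at hM
    have hMs : (M : Set (Fin D.rank)) ⊆ Js := Finset.coe_subset.2 hM
    rw [ncard_XJ H J M hM, Finset.sum_mul]
    refine Finset.sum_bij (fun d _ => d * longK C (M : Set (Fin D.rank))) (fun d hd => ?_)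
      (fun a _ b _ e => mul_right_cancel e) (fun x hx => ?_) (fun d hd => ?_)
    · obtain ⟨hd1, hd2⟩ := (Finset.mem_filter.1 hd).2
      refine Finset.mem_filter.2 ⟨Finset.mem_univ _, mul_mem hd2 (WK_mono hMs longK_mem),
        fun m hm => ?_⟩
      rw [Equiv.Perm.mul_apply]
      have h1 := longK_neg (C.p_pos m) (p_mem_PhiK (C := C) (K := (M : Set (Fin D.rank))) hm)
      have h2 := pos_on_PhiK hd1.1 hd1.2.2 _ (C.rev_pos h1)
        (PhiK_rev ((WK_PhiK longK_mem).2 (p_mem_PhiK hm)))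
      rw [wg_rev hd1.1] at h2
      have := C.rev_neg h2
      rwa [C.rev_rev] at this
    · obtain ⟨hx1, hx2⟩ := (Finset.mem_filter.1 hx).2
      refine ⟨x * (longK C (M : Set (Fin D.rank)))⁻¹, Finset.mem_filter.2 ⟨Finset.mem_univ _,
        ⟨mul_mem (WK_le_WG hx1) (inv_mem (WK_le_WG longK_mem)),
          fun k hk => absurd hk (Set.notMem_empty k), fun m hm => ?_⟩,
        mul_mem hx1 (inv_mem (WK_mono hMs longK_mem))⟩, inv_mul_cancel_right _ _⟩
      rw [Equiv.Perm.mul_apply]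
      have h1 := longK_inv_neg (C.p_pos m) (p_mem_PhiK (C := C) (K := (M : Set (Fin D.rank))) hm)
      have h2 := neg_on_PhiK (WK_le_WG hx1) (K := (M : Set (Fin D.rank))) hx2 _ (C.rev_pos h1)
        (PhiK_rev ((WK_PhiK (inv_mem longK_mem)).2 (p_mem_PhiK hm)))
      rw [wg_rev (WK_le_WG hx1)] at h2
      have := C.rev_pos h2
      rwa [C.rev_rev] at this
    · obtain ⟨hd1, -⟩ := (Finset.mem_filter.1 hd).2
      rw [len_mul_WK hd1.1 hd1.2.2 _ longK_mem, pow_add]
  rw [Finset.sum_congr rfl fun M hM => by rw [hterm M hM, Nat.cast_sum, Finset.mul_sum]]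
  set DS : Equiv.Perm (Rt D) → Finset (Fin D.rank) := fun x =>
    J.filter fun m => x (C.p m) ∈ C.Neg with hDS
  rw [Finset.sum_comm' (t' := T ∅) (s' := fun x => (DS x).powerset)]
  · rw [Finset.sum_eq_single (1 : Equiv.Perm (Rt D))]
    · have hds : DS 1 = ∅ := Finset.filter_eq_empty_iff.2 fun m _ h =>
        (C.neg_iff_not_pos _).1 h (C.p_pos m)
      rw [hds, Finset.powerset_empty, Finset.sum_singleton, C.len_one]
      simp
    · intro x hx hne
      rw [← Finset.sum_mul, Finset.sum_powerset_neg_one_pow_card, if_neg, zero_mul]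
      intro h
      obtain ⟨hx1, -⟩ := (Finset.mem_filter.1 hx).2
      obtain ⟨k, hk, hneg⟩ := exists_desc hx1 hne
      have : k ∈ DS x := Finset.mem_filter.2 ⟨hk, hneg⟩
      rw [h] at this
      simp at this
    · intro h
      exfalso
      exact h (Finset.mem_filter.2 ⟨Finset.mem_univ _, one_mem _, by simp⟩)
  · intro M x
    simp only [hT, hDS, Finset.mem_powerset, Finset.mem_filter, Finset.mem_univ, true_and]
    constructor
    · rintro ⟨hMJ, hx, hn⟩
      exact ⟨fun m hm => Finset.mem_filter.2 ⟨hMJ hm, hn m hm⟩, hx, by simp⟩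
    · rintro ⟨hM, hx, -⟩
      exact ⟨fun m hm => (Finset.mem_filter.1 (hM hm)).1, hx,
        fun m hm => (Finset.mem_filter.1 (hM hm)).2⟩

/-- A p-element of P_J is conjugate in P_J into B. -/
theorem exists_conj_borG (p : ℕ) [Fact p.Prime] [CharP F p] (J : Finset (Fin D.rank))
    {x : ↥(D.group F)} (hx : x ∈ parG F C (J : Set (Fin D.rank))) (hp : pElt p x) :
    ∃ c ∈ parG F C (J : Set (Fin D.rank)), c⁻¹ * x * c ∈ borG F C := by
  haveI : Fintype F := Fintype.ofFinite F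
  set X0 := XJ C F (J : Set (Fin D.rank)) ((∅ : Finset (Fin D.rank)) : Set (Fin D.rank)) with hX0
  have hndvd : ¬ p ∣ X0.ncard := by
    rw [hX0, ncard_XJ H J ∅ (Finset.empty_subset J),
      ← Finset.add_sum_erase _ _ (a := (1 : Equiv.Perm (Rt D))) (by
        refine Finset.mem_filter.2 ⟨Finset.mem_univ _, ⟨one_mem _, ?_, ?_⟩, one_mem _⟩ <;> simp),
      C.len_one, pow_zero]
    intro h
    obtain ⟨n, -, hn⟩ := FiniteField.card F p
    have h2 : p ∣ ∑ d ∈ ((Finset.univ.filter fun d : Equiv.Perm (Rt D) =>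
        IsRed C ∅ ((∅ : Finset (Fin D.rank)) : Set (Fin D.rank)) d ∧
          d ∈ WK C (J : Set (Fin D.rank))).erase 1), Nat.card F ^ C.len d := by
      refine Finset.dvd_sum fun d hd => ?_
      obtain ⟨hne, hd'⟩ := Finset.mem_erase.1 hd
      have hlen : C.len d ≠ 0 := fun h0 =>
        hne (C.eq_one_of_len_zero (Finset.mem_filter.1 hd').2.1.1 h0)
      rw [Nat.card_eq_fintype_card, hn]
      exact (dvd_pow_self p n.ne_zero).trans (dvd_pow_self _ hlen)
    have h3 := (Nat.dvd_add_left h2).1 h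
    exact (Fact.out : p.Prime).one_lt.not_ge (Nat.le_of_dvd one_pos h3)
  have hcl : ∀ z ∈ Subgroup.zpowers x, ∀ y ∈ X0, z • y ∈ X0 := by
    rintro z hz y ⟨c, hc, rfl⟩
    exact ⟨z * c, mul_mem ((Subgroup.zpowers_le.2 hx) hz) hc,
      (MulAction.Quotient.smul_mk _ z c).symm⟩
  let act : MulAction ↥(Subgroup.zpowers x) ↥X0 :=
    { smul := fun z y => ⟨(z : ↥(D.group F)) • y.1, hcl _ z.2 _ y.2⟩
      one_smul := fun y => Subtype.ext (one_smul _ y.1)
      mul_smul := fun z w y =>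
        Subtype.ext (mul_smul (z : ↥(D.group F)) (w : ↥(D.group F)) y.1) }
  letI := act
  obtain ⟨k, hk⟩ := hp
  have hPG : IsPGroup p ↥(Subgroup.zpowers x) := by
    rintro ⟨z, m, rfl⟩
    refine ⟨k, Subtype.ext ?_⟩
    show (x ^ m) ^ (p ^ k) = 1
    rw [← zpow_natCast, ← zpow_mul, mul_comm, zpow_mul, zpow_natCast, hk, one_zpow]
  haveI : Finite ↥X0 := Finite.of_injective _ Subtype.val_injective
  obtain ⟨y, hy⟩ : (MulAction.fixedPoints ↥(Subgroup.zpowers x) ↥X0).Nonempty :=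
    hPG.nonempty_fixed_point_of_prime_not_dvd_card _ (by rwa [Nat.card_coe_set_eq])
  obtain ⟨c, hc, e⟩ := y.2
  refine ⟨c, hc, ?_⟩
  have h1 := congrArg Subtype.val (hy ⟨x, Subgroup.mem_zpowers x⟩)
  change x • y.1 = y.1 at h1
  rw [← e, MulAction.Quotient.smul_mk, QuotientGroup.eq, smul_eq_mul, Finset.coe_empty,
    parG_empty] at h1
  have := inv_mem h1
  convert this using 1
  group

/-- The p-elements of a parabolic subgroup. -/
theorem card_pElt_parG (p : ℕ) [Fact p.Prime] [CharP F p] (J : Finset (Fin D.rank)) :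
    {g : ↥(D.group F) | g ∈ parG F C (J : Set (Fin D.rank)) ∧ pElt p g}.ncard =
      Nat.card F ^ (D.nroots / 2 + C.len (longK C (J : Set (Fin D.rank)))) := by
  haveI : Fintype ↥(D.group F) := Fintype.ofFinite _
  induction J using Finset.strongInduction with
  | _ J ih =>
  set Js : Set (Fin D.rank) := (J : Set (Fin D.rank)) with hJs
  haveI : ∀ M : Finset (Fin D.rank), Fintype (↥(D.group F) ⧸ parG F C (M : Set (Fin D.rank))) :=
    fun _ => Fintype.ofFinite _
  set u : Finset (Fin D.rank) → ℕ := fun M =>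
    {g : ↥(D.group F) | g ∈ parG F C (M : Set (Fin D.rank)) ∧ pElt p g}.ncard with hu
  set S : Finset ↥(D.group F) := Finset.univ.filter fun g => g ∈ parG F C Js ∧ pElt p g with hS
  set fix : Finset (Fin D.rank) → ↥(D.group F) → ℕ := fun M g =>
    {y | y ∈ XJ C F Js (M : Set (Fin D.rank)) ∧ g • y = y}.ncard with hfixdef
  -- counting pairs
  have hpairs : ∀ M ∈ J.powerset,
      ∑ g ∈ S, fix M g = (XJ C F Js (M : Set (Fin D.rank))).ncard * u M := by
    intro M hM
    have hMs : (M : Set (Fin D.rank)) ⊆ Js := Finset.coe_subset.2 (Finset.mem_powerset.1 hM)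
    have e1 : ∀ g, fix M g =
        ((XJ C F Js (M : Set (Fin D.rank))).toFinset.filter fun y => g • y = y).card := fun g => by
      rw [← Set.ncard_coe_finset]
      show Set.ncard {y | y ∈ XJ C F Js (M : Set (Fin D.rank)) ∧ g • y = y} = _
      congr 1
      ext y
      simp
    rw [Finset.sum_congr rfl fun g _ => e1 g]
    simp only [Finset.card_filter]
    rw [Finset.sum_comm]
    simp only [← Finset.card_filter]
    rw [Finset.sum_const_nat (m := u M), Set.ncard_eq_toFinset_card']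
    intro y hy
    rw [Set.mem_toFinset] at hy
    obtain ⟨c, hc, rfl⟩ := hy
    rw [hu, ← Set.ncard_coe_finset]
    refine (congrArg Set.ncard (?_ : _ = (fun g => c * g * c⁻¹) ''
      {g : ↥(D.group F) | g ∈ parG F C (M : Set (Fin D.rank)) ∧ pElt p g})).trans
      (Set.ncard_image_of_injective _ fun a b e => mul_left_cancel (mul_right_cancel e))
    ext g
    simp only [Finset.coe_filter, hS, Finset.mem_filter, Finset.mem_univ, true_and,
      Set.mem_setOf_eq, Set.mem_image]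
    rw [MulAction.Quotient.smul_mk, QuotientGroup.eq, smul_eq_mul]
    constructor
    · rintro ⟨⟨hg, hp⟩, hfix⟩
      refine ⟨c⁻¹ * g * c, ⟨?_, by simpa using pElt_conj hp c⁻¹⟩, by group⟩
      have := inv_mem hfix
      convert this using 1
      group
    · rintro ⟨z, ⟨hz, hp⟩, rfl⟩
      refine ⟨⟨mul_mem (mul_mem hc (parG_mono hMs hz)) (inv_mem hc), pElt_conj hp c⟩, ?_⟩
      have := inv_mem hz
      convert this using 1
      group
  -- evaluating the alternating sum
  have hval : ∀ g ∈ S, ∑ M ∈ J.powerset, (-1 : ℤ) ^ M.card * (fix M g : ℤ) =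
      if g ∈ uG C F (radK C Js) then ((Nat.card F ^ C.len (longK C Js) : ℕ) : ℤ) else 0 := by
    intro g hg
    obtain ⟨hgP, hgp⟩ := (Finset.mem_filter.1 hg).2
    obtain ⟨c, hc, hb⟩ := exists_conj_borG H p J hgP hgp
    have hinv : ∀ M : Finset (Fin D.rank), fix M g = fix M (c⁻¹ * g * c) := by
      intro M
      show Set.ncard {y | y ∈ XJ C F Js (M : Set (Fin D.rank)) ∧ g • y = y} =
        Set.ncard {y | y ∈ XJ C F Js (M : Set (Fin D.rank)) ∧ (c⁻¹ * g * c) • y = y}
      rw [← Set.ncard_image_of_injective {y | y ∈ XJ C F Js (M : Set (Fin D.rank)) ∧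
        (c⁻¹ * g * c) • y = y} (MulAction.injective c)]
      congr 1
      ext y
      constructor
      · rintro ⟨⟨q, hq, rfl⟩, hy⟩
        refine ⟨c⁻¹ • QuotientGroup.mk q, ⟨⟨c⁻¹ * q, mul_mem (inv_mem hc) hq,
          (MulAction.Quotient.smul_mk _ c⁻¹ q).symm⟩, ?_⟩, smul_inv_smul _ _⟩
        rw [mul_smul, mul_smul, smul_inv_smul, hy]
      · rintro ⟨y, ⟨⟨q, hq, rfl⟩, hy⟩, rfl⟩
        refine ⟨⟨c * q, mul_mem hc hq, (MulAction.Quotient.smul_mk _ c q).symm⟩, ?_⟩
        rw [mul_smul, mul_smul, inv_smul_eq_iff] at hy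
        exact hy
    have hmem : g ∈ uG C F (radK C Js) ↔ c⁻¹ * g * c ∈ uG C F (radK C Js) := by
      refine ⟨fun h => ?_, fun h => ?_⟩
      · simpa using parG_normalizes H (inv_mem hc) h
      · have := parG_normalizes H hc h
        convert this using 1
        group
    rw [Finset.sum_congr rfl fun M _ => by rw [hinv M], master_rel H J hb,
      orbFix_long H p hb (by simpa using pElt_conj hgp c⁻¹)]
    by_cases hh : g ∈ uG C F (radK C Js)
    · rw [if_pos hh, if_pos (hmem.1 hh)]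
    · rw [if_neg hh, if_neg (mt hmem.2 hh), Nat.cast_zero]
  have hU : (S.filter fun g => g ∈ uG C F (radK C Js)).card = Nat.card ↥(uG C F (radK C Js)) := by
    rw [Nat.card_eq_fintype_card, Fintype.card_subtype]
    congr 1
    ext g
    simp only [hS, Finset.mem_filter, Finset.mem_univ, true_and]
    refine ⟨fun h => h.2, fun h => ⟨⟨borG_le_parG (radK_le_borG H h), ?_⟩, h⟩⟩
    haveI : Fintype F := Fintype.ofFinite F
    obtain ⟨n, -, hn⟩ := FiniteField.card F p
    refine ⟨(n : ℕ) * (radK C Js).ncard, ?_⟩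
    have h1 : (⟨g, h⟩ : ↥(uG C F (radK C Js))) ^ Nat.card ↥(uG C F (radK C Js)) = 1 :=
      pow_card_eq_one'
    rw [card_uG_radK H, Nat.card_eq_fintype_card, hn, ← pow_mul] at h1
    exact congrArg Subtype.val h1
  have hsum : ∑ M ∈ J.powerset, (-1 : ℤ) ^ M.card *
      (((XJ C F Js (M : Set (Fin D.rank))).ncard * u M : ℕ) : ℤ) =
      ((Nat.card F ^ (D.nroots / 2) : ℕ) : ℤ) := by
    rw [Finset.sum_congr rfl fun M hM => by rw [← hpairs M hM, Nat.cast_sum, Finset.mul_sum],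
      Finset.sum_comm, Finset.sum_congr rfl hval, ← Finset.sum_filter, Finset.sum_const, hU,
      card_uG_radK H, nsmul_eq_mul, ← Nat.cast_mul, ← pow_add, add_comm, len_longK_add]
  have key : ∑ M ∈ J.powerset, (-1 : ℤ) ^ M.card *
      (((XJ C F Js (M : Set (Fin D.rank))).ncard * u M : ℕ) : ℤ) -
      ((Nat.card F ^ (D.nroots / 2) : ℕ) : ℤ) * ∑ M ∈ J.powerset, (-1 : ℤ) ^ M.card *
      (((XJ C F Js (M : Set (Fin D.rank))).ncard *
        Nat.card F ^ C.len (longK C (M : Set (Fin D.rank))) : ℕ) : ℤ) = 0 := by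
    rw [hsum, alt_XJ H J, mul_one, sub_self]
  rw [Finset.mul_sum, ← Finset.sum_sub_distrib, Finset.sum_eq_single J] at key
  · have hne : (XJ C F Js (J : Set (Fin D.rank))).ncard ≠ 0 := by
      exact Set.ncard_ne_zero_of_mem (a := (QuotientGroup.mk 1 : ↥(D.group F) ⧸ parG F C _))
        ⟨1, one_mem _, rfl⟩
    have h2 : (-1 : ℤ) ^ J.card * ((XJ C F Js (J : Set (Fin D.rank))).ncard : ℤ) *
        ((u J : ℤ) -
          ((Nat.card F ^ (D.nroots / 2 + C.len (longK C Js)) : ℕ) : ℤ)) = 0 := by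
      rw [← key]
      push_cast
      ring
    rcases mul_eq_zero.1 h2 with h3 | h3
    · rcases mul_eq_zero.1 h3 with h4 | h4
      · exact absurd h4 (pow_ne_zero _ (by norm_num))
      · exact absurd (Int.natCast_eq_zero.1 h4) hne
    · exact_mod_cast sub_eq_zero.1 h3
  · intro M hM hne
    have hlt : M ⊂ J := (Finset.mem_powerset.1 hM).ssubset_of_ne hne
    rw [show u M = _ from ih M hlt]
    push_cast
    ring
  · exact fun h => absurd (Finset.mem_powerset.2 (Finset.Subset.refl J)) h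

/-- The number of elements of p-power order is q^(2N). -/
theorem card_pElements (p : ℕ) [Fact p.Prime] [CharP F p] :
    Nat.card {g : ↥(D.group F) // ∃ k : ℕ, orderOf g = p ^ k} =
      Nat.card F ^ (2 * (D.nroots / 2)) := by
  have h := card_pElt_parG H p (F := F) (C := C) (Finset.univ : Finset (Fin D.rank))
  have hN := len_longK_add (C := C) (J := Set.univ)
  have h0 : (radK C (Set.univ : Set (Fin D.rank))) = ∅ :=
    Set.eq_empty_of_forall_notMem fun r hr => hr.2 (mem_PhiK_univ r)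
  rw [h0, Set.ncard_empty, add_zero] at hN
  rw [Finset.coe_univ, hN, ← two_mul] at h
  rw [← h, ← Nat.card_coe_set_eq]
  refine Nat.card_congr (Equiv.subtypeEquivRight fun g => ?_)
  simp only [parG_univ H, Subgroup.mem_top, true_and, Set.mem_setOf_eq]
  constructor
  · rintro ⟨k, hk⟩
    exact ⟨k, orderOf_dvd_iff_pow_eq_one.1 (by rw [hk])⟩
  · rintro ⟨k, hk⟩
    obtain ⟨i, -, hi⟩ := (Nat.dvd_prime_pow (Fact.out : p.Prime)).1 (orderOf_dvd_of_pow_eq_one hk)
    exact ⟨i, hi⟩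

end Cfsg.Agent.Lib.Steinberg
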