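import Cfsg.Agent.Lib.Steinberg.Orbits

/-!
The restriction of the Steinberg character to a parabolic subgroup: at an element elliptic in P_K it
is, up to the sign (-1)^|K|, the number of fixed points on one regular orbit of the radical U_K.
-/

set_option autoImplicit false
set_option linter.unusedSectionVars false

namespace Cfsg.Agent.Lib.Steinberg

open Cfsg.Lie Cfsg.Agent.Lib.ChevStructure
open scoped MatrixGroups Classical

variable {D : ChevalleyDatum} (C : Core D) (F : Type*) [Field F]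

/-- The fixed points of g in the orbit of d. -/
def OrbFix (K M : Set (Fin D.rank)) (d : Equiv.Perm (Rt D)) (g : ↥(D.group F)) :
    Set (↥(D.group F) ⧸ parG F C M) := {x | x ∈ Orb C F K M d ∧ g • x = x}

/-- g is not conjugate inside P_K into a smaller standard parabolic. -/
def Elliptic (K : Set (Fin D.rank)) (g : ↥(D.group F)) : Prop :=
  g ∈ parG F C K ∧ ∀ K' : Set (Fin D.rank), K' ⊆ K → K' ≠ K →
    ∀ p ∈ parG F C K, p⁻¹ * g * p ∉ parG F C K'

/-- The number of fixed points of g on G/P_M. -/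
noncomputable def fixCount (M : Set (Fin D.rank)) (g : ↥(D.group F)) : ℕ :=
  Nat.card (MulAction.fixedBy (↥(D.group F) ⧸ parG F C M) g)

/-- The Steinberg alternating sum, as an integer. -/
noncomputable def stZ (g : ↥(D.group F)) : ℤ :=
  ∑ M ∈ (Finset.univ : Finset (Fin D.rank)).powerset, (-1) ^ M.card * (fixCount C F (M : Set (Fin D.rank)) g : ℤ)

/-- The coset space P_J/P_M inside G/P_M. -/
def XJ (J M : Set (Fin D.rank)) : Set (↥(D.group F) ⧸ parG F C M) :=
  {x | ∃ p ∈ parG F C J, QuotientGroup.mk p = x}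

variable {C F}
variable {K M J : Set (Fin D.rank)} {d : Equiv.Perm (Rt D)} {g : ↥(D.group F)}

/-- The sum of (-1)^|M| over an interval. -/
theorem sum_interval {α : Type*} [DecidableEq α] (A R : Finset α) (hAR : A ⊆ R) :
    ∑ M ∈ R.powerset with A ⊆ M, (-1 : ℤ) ^ M.card = if A = R then (-1) ^ R.card else 0 := by
  by_cases h : A = R
  · subst h
    rw [if_pos rfl, Finset.sum_eq_single A]
    · intro M hM hne
      simp only [Finset.mem_filter, Finset.mem_powerset] at hM
      exact absurd (Finset.Subset.antisymm hM.1 hM.2) hne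
    · simp
  · rw [if_neg h]
    obtain ⟨m, hmR, hmA⟩ : ∃ m ∈ R, m ∉ A := by
      by_contra hc
      push Not at hc
      exact h (Finset.Subset.antisymm hAR hc)
    refine Finset.sum_involution (fun M _ => if m ∈ M then M.erase m else insert m M) ?_ ?_ ?_ ?_
    · intro M _
      by_cases hm : m ∈ M
      · obtain ⟨c, hc⟩ : ∃ c, M.card = c + 1 := ⟨M.card - 1, by
          have := Finset.card_pos.2 ⟨m, hm⟩; omega⟩
        rw [if_pos hm, Finset.card_erase_of_mem hm, hc, Nat.add_sub_cancel, pow_succ]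
        ring
      · rw [if_neg hm, Finset.card_insert_of_notMem hm, pow_succ]
        ring
    · intro M _ _
      by_cases hm : m ∈ M
      · rw [if_pos hm]; exact fun e => Finset.notMem_erase m M (by rw [e]; exact hm)
      · rw [if_neg hm]; exact fun e => hm (by rw [← e]; exact Finset.mem_insert_self m M)
    · intro M hM
      simp only [Finset.mem_filter, Finset.mem_powerset] at hM ⊢
      split
      · exact ⟨(Finset.erase_subset _ _).trans hM.1,
          fun a ha => Finset.mem_erase.2 ⟨fun e => hmA (e ▸ ha), hM.2 ha⟩⟩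
      · exact ⟨Finset.insert_subset hmR hM.1, hM.2.trans (Finset.subset_insert _ _)⟩
    · intro M _
      by_cases hm : m ∈ M
      · simp [hm, Finset.insert_erase hm]
      · simp [hm, Finset.erase_insert hm]

variable (H : CommOK C)
include H

theorem exists_rad_fix (hd : IsRed C K M d) (hfull : ∀ k ∈ K, d⁻¹ (C.p k) ∈ PhiK C M)
    {x : ↥(D.group F) ⧸ parG F C M} (hx : x ∈ Orb C F K M d) :
    ∃ u ∈ uG C F (radK C K), u • pt C F M d = x := by
  obtain ⟨p, hp, rfl⟩ := hx
  obtain ⟨u, hu, l, hl, -, rfl⟩ := exists_rad_levi H hp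
  exact ⟨u, hu, by rw [mul_smul, levi_fix hd hfull hl]⟩

theorem full_of_nonempty (hd : IsRed C K M d) (hg : Elliptic C F K g)
    (h : (OrbFix C F K M d g).Nonempty) : ∀ k ∈ K, d⁻¹ (C.p k) ∈ PhiK C M := by
  obtain ⟨x, ⟨p, hp, rfl⟩, hfix⟩ := h
  have hfix' : (p⁻¹ * g * p) • pt C F M d = pt C F M d := by
    rw [mul_smul, mul_smul, hfix, inv_smul_smul]
  obtain ⟨v, hv, hcell⟩ := stab_cell H hd (mul_mem (mul_mem (inv_mem hp) hg.1) hp) hfix'
  have hmem := (mem_parG_iff H).2 ⟨v, hv, hcell⟩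
  by_contra hc
  push Not at hc
  obtain ⟨k, hk, hkM⟩ := hc
  refine hg.2 (inter C K M d) (fun a ha => ha.1) (fun e => hkM ?_) p hp hmem
  rw [← e] at hk
  exact hk.2

/-- The fixed points in an orbit do not depend on the upper parabolic. -/
theorem card_orbFix_eq {M' : Set (Fin D.rank)} (hgK : g ∈ parG F C K) (hsub : M' ⊆ M) (hd : IsRed C K M d)
    (hfull : ∀ k ∈ K, d⁻¹ (C.p k) ∈ PhiK C M') :
    (OrbFix C F K M d g).ncard = (OrbFix C F K M' d g).ncard := by
  have hd' : IsRed C K M' d := ⟨hd.1, hd.2.1, fun m hm => hd.2.2 m (hsub hm)⟩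
  have hfullM : ∀ k ∈ K, d⁻¹ (C.p k) ∈ PhiK C M := fun k hk => PhiK_mono hsub (hfull k hk)
  have hle : parG F C M' ≤ parG F C M := parG_mono hsub
  let φ : (↥(D.group F) ⧸ parG F C M') → (↥(D.group F) ⧸ parG F C M) :=
    Subgroup.quotientMapOfLE hle
  have hφ : ∀ (a : ↥(D.group F)) (x : ↥(D.group F) ⧸ parG F C M'), φ (a • x) = a • φ x := by
    intro a x
    obtain ⟨y, rfl⟩ := QuotientGroup.mk_surjective x
    simp only [φ, MulAction.Quotient.smul_mk, Subgroup.quotientMapOfLE_apply_mk]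
  have hφpt : φ (pt C F M' d) = pt C F M d := Subgroup.quotientMapOfLE_apply_mk hle _
  have hstab : ∀ u ∈ uG C F (radK C K), u • pt C F M d = pt C F M d →
      u • pt C F M' d = pt C F M' d := by
    intro u hu hfix
    have h1 := stab_borel H (⟨hd.1, fun k hk => absurd hk (by simp), hd.2.2⟩ : IsRed C ∅ M d)
      (radK_le_borG H hu) hfix
    have h2 : ((nEl C F d)⁻¹ * u * nEl C F d)⁻¹ ∈ parG F C M' := inv_mem (borG_le_parG h1)
    rw [pt, MulAction.Quotient.smul_mk, QuotientGroup.eq, smul_eq_mul]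
    convert h2 using 1
    group
  have hinj : Set.InjOn φ (Orb C F K M' d) := by
    intro x hx y hy e
    obtain ⟨u, hu, rfl⟩ := exists_rad_fix H hd' hfull hx
    obtain ⟨v, hv, rfl⟩ := exists_rad_fix H hd' hfull hy
    rw [hφ, hφ, hφpt] at e
    have h1 := hstab (v⁻¹ * u) (mul_mem (inv_mem hv) hu) (by rw [mul_smul, e, inv_smul_smul])
    rw [mul_smul, inv_smul_eq_iff] at h1
    exact h1
  have himage : φ '' OrbFix C F K M' d g = OrbFix C F K M d g := by
    ext y
    constructor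
    · rintro ⟨x, ⟨⟨p, hp, rfl⟩, hfix⟩, rfl⟩
      refine ⟨⟨p, hp, ?_⟩, ?_⟩
      · rw [hφ, hφpt]
      · rw [← hφ, hfix]
    · rintro ⟨hy, hfix⟩
      obtain ⟨u, hu, rfl⟩ := exists_rad_fix H hd hfullM hy
      have hu' : u ∈ parG F C K := borG_le_parG (radK_le_borG H hu)
      refine ⟨u • pt C F M' d, ⟨⟨u, hu', rfl⟩, ?_⟩, by rw [hφ, hφpt]⟩
      refine hinj ⟨g * u, mul_mem hgK hu', mul_smul g u _⟩ ⟨u, hu', rfl⟩ ?_
      rw [hφ, hφ, hφpt, hfix]
  rw [← himage]
  exact Set.ncard_image_of_injOn (hinj.mono fun x hx => hx.1)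

/-- The fixed points in an orbit, summed over the upper parabolic. -/
theorem sum_orbFix {K R : Finset (Fin D.rank)} (hg : Elliptic C F (K : Set (Fin D.rank)) g)
    (hd : IsRed C (K : Set (Fin D.rank)) (R : Set (Fin D.rank)) d) :
    ∑ M ∈ R.powerset, (-1 : ℤ) ^ M.card *
        ((OrbFix C F (K : Set (Fin D.rank)) (M : Set (Fin D.rank)) d g).ncard : ℤ) =
      if (∀ k ∈ K, ∃ m, d (C.p m) = C.p k) ∧ (∀ m, m ∈ R ↔ ∃ k ∈ K, d (C.p m) = C.p k) then
        (-1) ^ R.card * ((OrbFix C F (K : Set (Fin D.rank)) (R : Set (Fin D.rank)) d g).ncard : ℤ)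
      else 0 := by
  set A := (Finset.univ : Finset (Fin D.rank)).filter fun m => ∃ k ∈ K, d (C.p m) = C.p k with hA
  have hmemA : ∀ m, m ∈ A ↔ ∃ k ∈ K, d (C.p m) = C.p k := fun m => by simp [hA]
  have hred : ∀ M : Finset (Fin D.rank), M ⊆ R →
      IsRed C (K : Set (Fin D.rank)) (M : Set (Fin D.rank)) d := fun M hM =>
    ⟨hd.1, hd.2.1, fun m hm => hd.2.2 m (hM hm)⟩
  have hne : ∀ M : Finset (Fin D.rank), M ⊆ R →
      (OrbFix C F (K : Set (Fin D.rank)) (M : Set (Fin D.rank)) d g).Nonempty →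
      (∀ k ∈ K, ∃ m, d (C.p m) = C.p k) ∧ A ⊆ M := by
    intro M hM h
    have hf := full_of_nonempty H (hred M hM) hg h
    refine ⟨fun k hk => ?_, fun m hm => ?_⟩
    · obtain ⟨m, -, hm⟩ := fundamental_of_image (d := d) hd.1 (hred M hM).2.2
        (hd.2.1 k hk) (hf k hk) (j := k) (by simp)
      exact ⟨m, by rw [← hm]; simp⟩
    · obtain ⟨k, hk, he⟩ := (hmemA m).1 hm
      have := hf k hk
      rw [← he, Equiv.Perm.inv_def, Equiv.symm_apply_apply] at this
      exact_mod_cast p_mem_PhiK_iff.1 this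
  have hzero : ∀ M : Finset (Fin D.rank), M ⊆ R →
      ¬ ((∀ k ∈ K, ∃ m, d (C.p m) = C.p k) ∧ A ⊆ M) →
      (OrbFix C F (K : Set (Fin D.rank)) (M : Set (Fin D.rank)) d g).ncard = 0 := by
    intro M hM hn
    rw [Set.not_nonempty_iff_eq_empty.1 fun h => hn (hne M hM h), Set.ncard_empty]
  by_cases hfull : (∀ k ∈ K, ∃ m, d (C.p m) = C.p k) ∧ A ⊆ R
  · have hAK : ∀ k ∈ K, d⁻¹ (C.p k) ∈ PhiK C (A : Set (Fin D.rank)) := by
      intro k hk
      obtain ⟨m, hm⟩ := hfull.1 k hk
      have : d⁻¹ (C.p k) = C.p m := by rw [← hm]; simp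
      rw [this]
      exact p_mem_PhiK ((hmemA m).2 ⟨k, hk, hm⟩)
    have hstep : ∀ M ∈ R.powerset, (-1 : ℤ) ^ M.card *
        ((OrbFix C F (K : Set (Fin D.rank)) (M : Set (Fin D.rank)) d g).ncard : ℤ) =
        (if A ⊆ M then (-1 : ℤ) ^ M.card else 0) *
          ((OrbFix C F (K : Set (Fin D.rank)) (A : Set (Fin D.rank)) d g).ncard : ℤ) := by
      intro M hM
      rw [Finset.mem_powerset] at hM
      by_cases hAM : A ⊆ M
      · rw [if_pos hAM, card_orbFix_eq H hg.1 (Finset.coe_subset.2 hAM) (hred M hM) hAK]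
      · rw [if_neg hAM, zero_mul, hzero M hM fun h => hAM h.2]
        simp
    rw [Finset.sum_congr rfl hstep, ← Finset.sum_mul, ← Finset.sum_filter, sum_interval A R hfull.2]
    by_cases hAR : A = R
    · rw [if_pos hAR, if_pos]
      · rw [hAR]
      · exact ⟨hfull.1, fun m => by rw [← hAR]; exact hmemA m⟩
    · rw [if_neg hAR, zero_mul, if_neg]
      rintro ⟨-, h⟩
      exact hAR (Finset.ext fun m => (hmemA m).trans (h m).symm)
  · rw [Finset.sum_eq_zero fun M hM => ?_, if_neg]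
    · rintro ⟨h1, h2⟩
      exact hfull ⟨h1, fun m hm => (h2 m).2 ((hmemA m).1 hm)⟩
    · rw [hzero M (Finset.mem_powerset.1 hM) fun h =>
        hfull ⟨h.1, h.2.trans (Finset.mem_powerset.1 hM)⟩]
      simp

variable [Finite F]

theorem ncard_eq_sum (K M : Set (Fin D.rank)) (S : Set (↥(D.group F) ⧸ parG F C M))
    (ds : Finset (Equiv.Perm (Rt D))) (hds : ∀ d ∈ ds, IsRed C K M d)
    (hS : ∀ x ∈ S, ∀ d, IsRed C K M d → x ∈ Orb C F K M d → d ∈ ds) :
    S.ncard = ∑ d ∈ ds, (S ∩ Orb C F K M d).ncard := by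
  haveI : Fintype (↥(D.group F) ⧸ parG F C M) := Fintype.ofFinite _
  rw [Set.ncard_eq_toFinset_card']
  rw [Finset.card_eq_sum_card_fiberwise (t := ds)
    (f := fun x => (exists_mem_orb H (K := K) x).choose) (fun x hx => ?_)]
  · refine Finset.sum_congr rfl fun d hd => ?_
    rw [Set.ncard_eq_toFinset_card']
    congr 1
    ext x
    simp only [Finset.mem_filter, Set.mem_toFinset, Set.mem_inter_iff]
    obtain ⟨h1, h2⟩ := (exists_mem_orb H (K := K) x).choose_spec
    refine and_congr_right fun _ => ⟨fun e => e ▸ h2, fun h => orb_unique H h1 (hds d hd) h2 h⟩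
  · obtain ⟨h1, h2⟩ := (exists_mem_orb H (K := K) x).choose_spec
    exact hS x (by simpa using hx) _ h1 h2

/-- The Steinberg character at an element elliptic in P_K. -/
theorem master (K : Finset (Fin D.rank)) (hg : Elliptic C F (K : Set (Fin D.rank)) g) :
    stZ C F g = (-1) ^ K.card *
      ((OrbFix C F (K : Set (Fin D.rank)) (mTop C (K : Set (Fin D.rank)))
        (dTop C (K : Set (Fin D.rank))) g).ncard : ℤ) := by
  set Ks : Set (Fin D.rank) := (K : Set (Fin D.rank)) with hKs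
  set ds : Finset (Fin D.rank) → Finset (Equiv.Perm (Rt D)) := fun M =>
    Finset.univ.filter fun d => IsRed C Ks (M : Set (Fin D.rank)) d with hds
  set RA : Equiv.Perm (Rt D) → Finset (Fin D.rank) := fun d =>
    Finset.univ.filter fun m => d (C.p m) ∈ C.Pos with hRA
  have hcount : ∀ M : Finset (Fin D.rank), fixCount C F (M : Set (Fin D.rank)) g =
      ∑ d ∈ ds M, (OrbFix C F Ks (M : Set (Fin D.rank)) d g).ncard := by
    intro M
    rw [fixCount, Nat.card_coe_set_eq, ncard_eq_sum H Ks _ _ (ds M) (fun d hd => by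
      simpa [hds] using hd) (fun x _ d hd _ => by simp [hds, hd])]
    refine Finset.sum_congr rfl fun d _ => congrArg Set.ncard ?_
    ext x
    exact and_comm
  have e1 : stZ C F g = ∑ d ∈ ds ∅, ∑ M ∈ (RA d).powerset, (-1 : ℤ) ^ M.card *
      ((OrbFix C F Ks (M : Set (Fin D.rank)) d g).ncard : ℤ) := by
    rw [stZ, Finset.sum_congr rfl fun M _ => by rw [hcount M, Nat.cast_sum, Finset.mul_sum]]
    refine Finset.sum_comm' fun M d => ?_
    simp only [Finset.mem_powerset, hds, hRA, Finset.mem_filter, Finset.mem_univ, true_and,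
      Finset.subset_univ]
    simp only [IsRed]
    constructor
    · rintro ⟨h1, h2, h3⟩
      exact ⟨fun m hm => by simpa using h3 m hm, h1, h2, by simp⟩
    · rintro ⟨h3, h1, h2, -⟩
      exact ⟨h1, h2, fun m hm => by simpa using h3 hm⟩
  have hredRA : ∀ d ∈ ds ∅, IsRed C Ks (RA d : Set (Fin D.rank)) d := by
    intro d hd
    simp only [hds, Finset.mem_filter, Finset.mem_univ, true_and] at hd
    exact ⟨hd.1, hd.2.1, fun m hm => by simpa [hRA] using hm⟩
  have htop : dTop C Ks ∈ ds ∅ := by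
    simp only [hds, Finset.mem_filter, Finset.mem_univ, true_and]
    exact ⟨dTop_mem, dTop_red.2.1, by simp⟩
  have hRAtop : ∀ m, m ∈ RA (dTop C Ks) ↔ m ∈ mTop C Ks := fun m => by simp [hRA, mTop]
  rw [e1, Finset.sum_congr rfl fun d hd => sum_orbFix H hg (hredRA d hd),
    Finset.sum_eq_single (dTop C Ks)]
  · rw [if_pos]
    · have hset : ((RA (dTop C Ks) : Finset (Fin D.rank)) : Set (Fin D.rank)) = mTop C Ks :=
        Set.ext fun m => hRAtop m
      rw [hset]
      congr 2
      symm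
      refine Finset.card_bij
        (fun k (hk : k ∈ K) => (exists_mTop (C := C) (K := Ks) hk).choose) (fun k hk => ?_)
        (fun a ha b hb e => ?_) (fun m hm => ?_)
      · exact (hRAtop _).2 (exists_mTop (C := C) (K := Ks) hk).choose_spec.1
      · have h1 := (exists_mTop (C := C) (K := Ks) ha).choose_spec.2
        rw [e, (exists_mTop (C := C) (K := Ks) hb).choose_spec.2] at h1
        exact (C.p_inj h1).symm
      · obtain ⟨k, hk, hmk⟩ := dTop_mTop ((hRAtop m).1 hm)
        refine ⟨k, hk, ?_⟩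
        have h1 := (exists_mTop (C := C) (K := Ks) hk).choose_spec.2
        exact C.p_inj ((dTop C Ks).injective (h1.trans hmk.symm))
    · refine ⟨fun k hk => ?_, fun m => ⟨fun hm => dTop_mTop ((hRAtop m).1 hm), ?_⟩⟩
      · obtain ⟨m, -, hm⟩ := exists_mTop (C := C) (K := Ks) hk
        exact ⟨m, hm⟩
      · rintro ⟨k, -, hk⟩
        simp only [hRA, Finset.mem_filter, Finset.mem_univ, true_and, hk]
        exact C.p_pos k
  · intro d hd hne
    refine if_neg ?_
    rintro ⟨-, hiff⟩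
    have hr := hredRA d hd
    apply hne
    have hlong : longK C Ks * d = long C := by
      refine eq_long (mul_mem (WK_le_WG longK_mem) hr.1) fun m => ?_
      rw [Equiv.Perm.mul_apply]
      by_cases hm : m ∈ RA d
      · obtain ⟨k, hk, he⟩ := (hiff m).1 hm
        rw [he]
        exact longK_neg (C.p_pos k) (p_mem_PhiK hk)
      · have hneg : d (C.p m) ∈ C.Neg := (C.neg_iff_not_pos _).2 (by simpa [hRA] using hm)
        have hq := C.rev_pos hneg
        by_cases hqK : (d (C.p m)).rev ∈ PhiK C Ks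
        · exfalso
          have h1 := pos_on_PhiK (inv_mem hr.1) hr.2.1 _ hq hqK
          rw [wg_rev (inv_mem hr.1)] at h1
          simp only [Equiv.Perm.inv_def, Equiv.symm_apply_apply] at h1
          exact (C.neg_iff_not_pos _).1 (C.rev_neg (C.p_pos m)) h1
        · have h1 := (WK_pos (σ := longK C Ks) longK_mem hq hqK).1
          rw [wg_rev (WK_le_WG longK_mem)] at h1
          have := C.rev_neg h1
          rwa [C.rev_rev] at this
    rw [dTop, ← hlong, inv_mul_cancel_left]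
  · exact fun h => absurd htop h

/-- The relative sum on a Borel element. -/
theorem master_rel (J : Finset (Fin D.rank)) (hg : g ∈ borG F C) :
    ∑ M ∈ J.powerset, (-1 : ℤ) ^ M.card *
        (({x | x ∈ XJ C F (J : Set (Fin D.rank)) (M : Set (Fin D.rank)) ∧ g • x = x}.ncard : ℕ) : ℤ) =
      ((OrbFix C F ∅ ∅ (longK C (J : Set (Fin D.rank))) g).ncard : ℤ) := by
  set Js : Set (Fin D.rank) := (J : Set (Fin D.rank)) with hJs
  have hell : Elliptic C F ((∅ : Finset (Fin D.rank)) : Set (Fin D.rank)) g := by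
    refine ⟨by rw [Finset.coe_empty, parG_empty]; exact hg, fun K' hK' hne => ?_⟩
    exfalso
    rw [Finset.coe_empty] at hK' hne
    exact hne (Set.subset_empty_iff.1 hK')
  set ds : Finset (Fin D.rank) → Finset (Equiv.Perm (Rt D)) := fun M =>
    Finset.univ.filter fun d => IsRed C ∅ (M : Set (Fin D.rank)) d ∧ d ∈ WK C Js with hds
  set RA : Equiv.Perm (Rt D) → Finset (Fin D.rank) := fun d =>
    J.filter fun m => d (C.p m) ∈ C.Pos with hRA
  have hcount : ∀ M ∈ J.powerset,
      {x | x ∈ XJ C F Js (M : Set (Fin D.rank)) ∧ g • x = x}.ncard =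
      ∑ d ∈ ds M, (OrbFix C F ((∅ : Finset (Fin D.rank)) : Set (Fin D.rank))
        (M : Set (Fin D.rank)) d g).ncard := by
    intro M hM
    have hMJ : (M : Set (Fin D.rank)) ⊆ Js := Finset.coe_subset.2 (Finset.mem_powerset.1 hM)
    rw [Finset.coe_empty, ncard_eq_sum H ∅ _ _ (ds M) (fun d hd => by
      simp only [hds, Finset.mem_filter, Finset.mem_univ, true_and] at hd; exact hd.1) ?_]
    · refine Finset.sum_congr rfl fun d hd => congrArg Set.ncard ?_
      simp only [hds, Finset.mem_filter, Finset.mem_univ, true_and] at hd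
      ext x
      refine ⟨fun h => ⟨h.2, h.1.2⟩, fun h => ⟨⟨?_, h.2⟩, h.1⟩⟩
      obtain ⟨p, hp, rfl⟩ := h.1
      exact ⟨p * nEl C F d, mul_mem (parG_mono (Set.empty_subset _) hp) (nEl_mem_parG hd.2),
        (MulAction.Quotient.smul_mk _ p (nEl C F d)).symm⟩
    · rintro x ⟨⟨p, hp, rfl⟩, -⟩ d hd hx
      simp only [hds, Finset.mem_filter, Finset.mem_univ, true_and]
      refine ⟨hd, ?_⟩
      obtain ⟨u, hu, v, hv, hcell⟩ := orb_cell H hd.1 hx
      obtain ⟨w, hw, hcw⟩ := (mem_parG_iff H).1 hp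
      have e := cell_unique H (mul_mem (mul_mem (WK_le_WG hu) hd.1) (WK_le_WG hv)) (WK_le_WG hw)
        hcell hcw
      rw [show d = u⁻¹ * (u * d * v) * v⁻¹ by group, e]
      exact mul_mem (mul_mem (inv_mem (WK_mono (Set.empty_subset _) hu)) hw)
        (inv_mem (WK_mono hMJ hv))
  have e1 : ∑ M ∈ J.powerset, (-1 : ℤ) ^ M.card *
      (({x | x ∈ XJ C F Js (M : Set (Fin D.rank)) ∧ g • x = x}.ncard : ℕ) : ℤ) =
      ∑ d ∈ ds ∅, ∑ M ∈ (RA d).powerset, (-1 : ℤ) ^ M.card *
      ((OrbFix C F ((∅ : Finset (Fin D.rank)) : Set (Fin D.rank))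
        (M : Set (Fin D.rank)) d g).ncard : ℤ) := by
    rw [Finset.sum_congr rfl fun M hM => by rw [hcount M hM, Nat.cast_sum, Finset.mul_sum]]
    refine Finset.sum_comm' fun M d => ?_
    simp only [Finset.mem_powerset, hds, hRA, Finset.mem_filter, Finset.mem_univ, true_and]
    simp only [IsRed]
    constructor
    · rintro ⟨hMJ, ⟨h1, h2, h3⟩, hW⟩
      exact ⟨fun m hm => Finset.mem_filter.2 ⟨hMJ hm, h3 m hm⟩, ⟨h1, h2, by simp⟩, hW⟩
    · rintro ⟨h3, ⟨h1, h2, -⟩, hW⟩
      exact ⟨fun m hm => (Finset.mem_filter.1 (h3 hm)).1,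
        ⟨h1, h2, fun m hm => (Finset.mem_filter.1 (h3 hm)).2⟩, hW⟩
  have hredRA : ∀ d ∈ ds ∅, IsRed C ((∅ : Finset (Fin D.rank)) : Set (Fin D.rank))
      (RA d : Set (Fin D.rank)) d := by
    intro d hd
    simp only [hds, Finset.mem_filter, Finset.mem_univ, true_and] at hd
    exact ⟨hd.1.1, by simp, fun m hm => (Finset.mem_filter.1 hm).2⟩
  have htop : longK C Js ∈ ds ∅ := by
    simp only [hds, Finset.mem_filter, Finset.mem_univ, true_and]
    exact ⟨⟨WK_le_WG longK_mem, by simp, by simp⟩, longK_mem⟩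
  have hRAtop : RA (longK C Js) = ∅ := by
    refine Finset.filter_eq_empty_iff.2 fun m hm hp => ?_
    exact (C.neg_iff_not_pos _).1 (longK_neg (C.p_pos m) (p_mem_PhiK (K := Js) hm)) hp
  rw [e1, Finset.sum_congr rfl fun d hd => sum_orbFix H hell (hredRA d hd),
    Finset.sum_eq_single (longK C Js)]
  · rw [if_pos ⟨by simp, fun m => by simp [hRAtop]⟩, hRAtop, Finset.card_empty, pow_zero, one_mul,
      Finset.coe_empty]
  · intro d hd hne
    refine if_neg ?_
    rintro ⟨-, hiff⟩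
    simp only [hds, Finset.mem_filter, Finset.mem_univ, true_and] at hd
    apply hne
    have h1 : (longK C Js)⁻¹ * d = 1 := by
      refine eq_one_of_pos (mul_mem (inv_mem (WK_le_WG longK_mem)) hd.1.1) fun i => ?_
      rw [Equiv.Perm.mul_apply]
      by_cases hi : i ∈ J
      · have hneg : d (C.p i) ∈ C.Neg := by
          rw [C.neg_iff_not_pos]
          intro hp
          have := (hiff i).1 (Finset.mem_filter.2 ⟨hi, hp⟩)
          simp at this
        have h2 := longK_inv_neg (C := C) (K := Js) (C.rev_pos hneg)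
          (PhiK_rev ((WK_PhiK hd.2).2 (p_mem_PhiK hi)))
        rw [wg_rev (inv_mem (WK_le_WG longK_mem))] at h2
        have h3 := C.rev_pos h2
        rwa [C.rev_rev] at h3
      · obtain ⟨h2, h3⟩ := WK_pos hd.2 (C.p_pos i) (fun h => hi (p_mem_PhiK_iff.1 h))
        exact (WK_pos (inv_mem longK_mem) h2 h3).1
    rw [inv_mul_eq_one] at h1
    exact h1.symm
  · exact fun h => absurd htop h

theorem radK_neg {r : Rt D} (hr : r ∈ radK C K) : (dTop C K)⁻¹ r ∈ C.Neg := by
  rw [dTop, mul_inv_rev, inv_inv, Equiv.Perm.mul_apply]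
  exact long_inv_neg (WK_pos longK_mem hr.1 hr.2).1

/-- U_K acts freely on the top orbit. -/
theorem rad_free {u : ↥(D.group F)} (hu : u ∈ uG C F (radK C K))
    (hfix : u • pt C F (mTop C K) (dTop C K) = pt C F (mTop C K) (dTop C K)) : u = 1 := by
  have h1 := stab_borel H
    (⟨dTop_mem, fun k hk => absurd hk (by simp), dTop_red.2.2⟩ : IsRed C ∅ (mTop C K) (dTop C K))
    (radK_le_borG H hu) hfix
  set n := (nEl C F (dTop C K) : GL D.Idx F) with hn
  have h2 : n⁻¹ * (u : GL D.Idx F) * n⁻¹⁻¹ ∈ C.US F C.Neg :=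
    C.conj_mem_US F (C.acts_inv F (acts_nEl dTop_mem)) (fun r hr => radK_neg H hr) hu
  have h3 : n⁻¹ * (u : GL D.Idx F) * n⁻¹⁻¹ ∈ D.borelSubgroup F := by
    rw [inv_inv]; exact h1
  have h4 : n⁻¹ * (u : GL D.Idx F) * n⁻¹⁻¹ = 1 := by
    rw [← Subgroup.mem_bot, ← C.borel_inf_negUS]
    exact ⟨h3, h2⟩
  apply Subtype.ext
  rwa [inv_inv, mul_eq_one_iff_eq_inv, inv_mul_eq_iff_eq_mul, mul_inv_cancel] at h4

theorem top_full : ∀ k ∈ K, (dTop C K)⁻¹ (C.p k) ∈ PhiK C (mTop C K) := by
  intro k hk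
  obtain ⟨m, hm, he⟩ := exists_mTop (C := C) hk
  rw [← he, Equiv.Perm.inv_def, Equiv.symm_apply_apply]
  exact p_mem_PhiK hm

end Cfsg.Agent.Lib.Steinberg
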