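import Cfsg.Agent.Lib.Steinberg.Weyl
import Cfsg.Agent.Lib.ChevStructure.NormalForm

/-!
Orbits of standard parabolic subgroups on the coset spaces of standard parabolic subgroups of a
Chevalley group.
-/

set_option autoImplicit false
set_option linter.unusedSectionVars false

namespace Cfsg.Agent.Lib.Steinberg

open Cfsg.Lie Cfsg.Agent.Lib.ChevStructure
open scoped MatrixGroups Pointwise

variable {D : ChevalleyDatum} (C : Core D) (F : Type*) [Field F]

/-- The Borel subgroup inside the Chevalley group. -/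
abbrev borG (_C : Core D) : Subgroup ↥(D.group F) := (D.borelSubgroup F).subgroupOf (D.group F)

/-- A standard parabolic subgroup inside the Chevalley group. -/
abbrev parG (_C : Core D) (J : Set (Fin D.rank)) : Subgroup ↥(D.group F) :=
  (D.parabolicSubgroup F (Fin.val '' J)).subgroupOf (D.group F)

/-- A root-generated subgroup inside the Chevalley group. -/
abbrev uG (S : Set (Rt D)) : Subgroup ↥(D.group F) := (C.US F S).subgroupOf (D.group F)

/-- The roots of the unipotent radical of P_K. -/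
abbrev radK (K : Set (Fin D.rank)) : Set (Rt D) := C.UJ (Fin.val '' K)

/-- A representative in N of a Weyl group element. -/
noncomputable def nEl (σ : Equiv.Perm (Rt D)) : ↥(D.group F) :=
  letI := Classical.propDecidable (σ ∈ C.WG)
  if h : σ ∈ C.WG then ⟨C.rep F ⟨σ, h⟩, C.monomial_le_group (C.rep_mem _)⟩ else 1

/-- The Bruhat cell of a Weyl group element. -/
def Cell (σ : Equiv.Perm (Rt D)) : Set ↥(D.group F) :=
  {x | ∃ a ∈ borG F C, ∃ b ∈ borG F C, x = a * nEl C F σ * b}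

/-- The base point of the orbit of d. -/
noncomputable def pt (M : Set (Fin D.rank)) (d : Equiv.Perm (Rt D)) :
    ↥(D.group F) ⧸ parG F C M := QuotientGroup.mk (nEl C F d)

/-- The orbit of P_K through the base point of d. -/
def Orb (K M : Set (Fin D.rank)) (d : Equiv.Perm (Rt D)) : Set (↥(D.group F) ⧸ parG F C M) :=
  {x | ∃ g ∈ parG F C K, g • pt C F M d = x}

variable {C F}
variable {K M J : Set (Fin D.rank)} {σ τ d : Equiv.Perm (Rt D)}

theorem nEl_monomial (σ : Equiv.Perm (Rt D)) :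
    (nEl C F σ : GL D.Idx F) ∈ D.monomialSubgroup F := by
  unfold nEl
  split
  · exact C.rep_mem _
  · exact one_mem _

theorem acts_nEl (hσ : σ ∈ C.WG) : C.Acts (nEl C F σ : GL D.Idx F) σ := by
  unfold nEl
  rw [dif_pos hσ]
  exact C.acts_rep F ⟨σ, hσ⟩

theorem eq_mul_diag {n : GL D.Idx F} (hn : n ∈ D.monomialSubgroup F) (ha : C.Acts n σ)
    (hσ : σ ∈ C.WG) : n⁻¹ * (nEl C F σ : GL D.Idx F) ∈ D.diagonalSubgroup F := by
  refine C.mem_diagonal_of_acts_one (mul_mem (inv_mem hn) (nEl_monomial σ)) ?_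
  simpa using C.acts_mul F (C.acts_inv F ha) (acts_nEl hσ)

theorem diag_mem_borG {h : ↥(D.group F)} (hh : (h : GL D.Idx F) ∈ D.diagonalSubgroup F) :
    h ∈ borG F C := C.diagonal_le_borel hh

theorem mem_cell_of_acts {n : ↥(D.group F)} (hn : (n : GL D.Idx F) ∈ D.monomialSubgroup F)
    (ha : C.Acts (n : GL D.Idx F) σ) (hσ : σ ∈ C.WG) : n ∈ Cell C F σ := by
  refine ⟨1, one_mem _, (nEl C F σ)⁻¹ * n, ?_, by group⟩
  have h := inv_mem (eq_mul_diag hn ha hσ)
  rw [mul_inv_rev, inv_inv] at h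
  exact C.diagonal_le_borel h

theorem mul_inv_mem_borG {n : ↥(D.group F)} (hn : (n : GL D.Idx F) ∈ D.monomialSubgroup F)
    (ha : C.Acts (n : GL D.Idx F) σ) (hσ : σ ∈ C.WG) : n * (nEl C F σ)⁻¹ ∈ borG F C := by
  refine diag_mem_borG ?_
  have h := C.conj_diagonal hn (inv_mem (eq_mul_diag hn ha hσ))
  simpa [mul_assoc] using h

theorem cell_mul_mem {x a b : ↥(D.group F)} (ha : a ∈ borG F C) (hb : b ∈ borG F C)
    (hx : x ∈ Cell C F σ) : a * x * b ∈ Cell C F σ := by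
  obtain ⟨a', ha', b', hb', rfl⟩ := hx
  exact ⟨a * a', mul_mem ha ha', b' * b, mul_mem hb' hb, by group⟩

theorem nEl_mem_cell (σ : Equiv.Perm (Rt D)) : nEl C F σ ∈ Cell C F σ :=
  ⟨1, one_mem _, 1, one_mem _, by group⟩

theorem mem_cell_one {x : ↥(D.group F)} : x ∈ Cell C F 1 ↔ x ∈ borG F C := by
  have hn : nEl C F 1 ∈ borG F C := by
    have h := eq_mul_diag (C := C) (F := F) (n := 1) (σ := 1) (one_mem _)
      (by simpa [C.HT_one] using C.acts_HT F 1) (one_mem _)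
    rw [inv_one, one_mul] at h
    exact C.diagonal_le_borel h
  constructor
  · rintro ⟨a, ha, b, hb, rfl⟩
    exact mul_mem (mul_mem ha hn) hb
  · intro hx
    exact ⟨x * (nEl C F 1)⁻¹, mul_mem hx (inv_mem hn), 1, one_mem _, by group⟩

variable (H : CommOK C)
include H

theorem cell_unique {x : ↥(D.group F)} (hσ : σ ∈ C.WG) (hτ : τ ∈ C.WG) (h1 : x ∈ Cell C F σ)
    (h2 : x ∈ Cell C F τ) : σ = τ := by
  obtain ⟨a, ha, b, hb, rfl⟩ := h1
  obtain ⟨a', ha', b', hb', e⟩ := h2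
  have e' : (nEl C F τ : GL D.Idx F) =
      ((a'⁻¹ * a : ↥(D.group F)) : GL D.Idx F) * (nEl C F σ : GL D.Idx F) *
        ((b * b'⁻¹ : ↥(D.group F)) : GL D.Idx F) := by
    have : nEl C F τ = (a'⁻¹ * a) * nEl C F σ * (b * b'⁻¹) := by
      calc nEl C F τ = a'⁻¹ * (a' * nEl C F τ * b') * b'⁻¹ := by group
        _ = a'⁻¹ * (a * nEl C F σ * b) * b'⁻¹ := by rw [e]
        _ = _ := by group
    exact congrArg Subtype.val this
  have hd := H.bruhat_unique (nEl_monomial σ) (nEl_monomial τ)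
    (show ((a'⁻¹ * a : ↥(D.group F)) : GL D.Idx F) ∈ D.borelSubgroup F from
      mul_mem (inv_mem ha') ha)
    (show ((b * b'⁻¹ : ↥(D.group F)) : GL D.Idx F) ∈ D.borelSubgroup F from
      mul_mem hb (inv_mem hb')) e'
  exact inv_mul_eq_one.1 (C.acts_unique F
    (C.acts_mul F (C.acts_inv F (acts_nEl hσ)) (acts_nEl hτ)) (C.acts_diagonal hd))

theorem exists_cell (x : ↥(D.group F)) : ∃ σ ∈ C.WG, x ∈ Cell C F σ := by
  obtain ⟨n, hn, hx⟩ := H.exists_bruhat x.2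
  obtain ⟨a, ha, b, hb, e⟩ := DoubleCoset.mem_doubleCoset.1 hx
  obtain ⟨σ, hσ, hac⟩ := C.exists_acts hn
  refine ⟨σ, hσ, ?_⟩
  have := cell_mul_mem (C := C) (a := ⟨a, C.borel_le_group ha⟩) (b := ⟨b, C.borel_le_group hb⟩)
    (x := ⟨n, C.monomial_le_group hn⟩) ha hb (mem_cell_of_acts hn hac hσ)
  convert this using 1
  exact Subtype.ext e

omit H in
theorem inv_mem_cell {x : ↥(D.group F)} (hσ : σ ∈ C.WG) (h : x ∈ Cell C F σ) :
    x⁻¹ ∈ Cell C F σ⁻¹ := by
  obtain ⟨a, ha, b, hb, rfl⟩ := h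
  rw [mul_inv_rev, mul_inv_rev, ← mul_assoc]
  exact cell_mul_mem (inv_mem hb) (inv_mem ha)
    (mem_cell_of_acts (inv_mem (nEl_monomial σ)) (C.acts_inv F (acts_nEl hσ)) (inv_mem hσ))

/-- Products of cells with additive lengths. -/
theorem cell_mul {x y : ↥(D.group F)} (hσ : σ ∈ C.WG) (hτ : τ ∈ C.WG)
    (h : ∀ r ∈ C.inv' σ, τ⁻¹ r ∈ C.Pos) (hx : x ∈ Cell C F σ) (hy : y ∈ Cell C F τ) :
    x * y ∈ Cell C F (σ * τ) := by
  obtain ⟨a, ha, b, hb, rfl⟩ := hx
  obtain ⟨a', ha', b', hb', rfl⟩ := hy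
  suffices key : nEl C F σ * (b * a') * nEl C F τ ∈ Cell C F (σ * τ) by
    have := cell_mul_mem ha hb' key
    simpa [mul_assoc] using this
  obtain ⟨v, hv, k, hk, e⟩ := C.mem_borel_iff.1 (show ((b * a' : ↥(D.group F)) : GL D.Idx F) ∈
    D.borelSubgroup F from mul_mem hb ha')
  obtain ⟨w, hw, c, hc, rfl⟩ := H.exists_factor (A := {r | σ r ∈ C.Pos}) (S := {r | σ r ∈ C.Neg})
    (fun r _ => (em _).imp_right (C.neg_iff_not_pos _).2) hv
  set n := (nEl C F σ : GL D.Idx F) with hn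
  set m := (nEl C F τ : GL D.Idx F) with hm
  have h1 : n * w * n⁻¹ ∈ D.borelSubgroup F :=
    C.posUS_le_borel (C.conj_mem_US F (acts_nEl hσ) (fun r hr => hr.1) hw)
  have h2 : m⁻¹ * c * m⁻¹⁻¹ ∈ D.borelSubgroup F :=
    C.posUS_le_borel (C.conj_mem_US F (C.acts_inv F (acts_nEl hτ))
      (fun r hr => h r ⟨hr.2, hr.1⟩) hc)
  have h3 : m⁻¹ * k * m⁻¹⁻¹ ∈ D.borelSubgroup F :=
    C.diagonal_le_borel (C.conj_diagonal (inv_mem (nEl_monomial τ)) hk)
  refine ⟨⟨n * w * n⁻¹, C.borel_le_group h1⟩ *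
    (nEl C F σ * nEl C F τ * (nEl C F (σ * τ))⁻¹), mul_mem h1 ?_,
    ⟨m⁻¹ * c * m⁻¹⁻¹ * (m⁻¹ * k * m⁻¹⁻¹), C.borel_le_group (mul_mem h2 h3)⟩, mul_mem h2 h3, ?_⟩
  · exact mul_inv_mem_borG (n := nEl C F σ * nEl C F τ)
      (mul_mem (nEl_monomial σ) (nEl_monomial τ))
      (C.acts_mul F (acts_nEl hσ) (acts_nEl hτ)) (mul_mem hσ hτ)
  · apply Subtype.ext
    simp only [Subgroup.coe_mul, Subgroup.coe_inv]
    rw [← hn, ← hm]
    have e' : (b : GL D.Idx F) * (a' : GL D.Idx F) = w * c * k := e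
    rw [e']
    group

omit H in
theorem nEl_mem_parG (hσ : σ ∈ WK C K) : nEl C F σ ∈ parG F C K := by
  obtain ⟨L, rfl, hL⟩ := exists_WK_word hσ
  have h := eq_mul_diag (C := C) (F := F) (C.wprod_mem_monomial L) (C.acts_wprod F L)
    (C.pprod_mem_WG L)
  have hw : C.wprod F L ∈ D.parabolicSubgroup F (Fin.val '' K) :=
    list_prod_mem fun g hg => by
      rw [List.mem_map] at hg
      obtain ⟨i, hi, rfl⟩ := hg
      exact C.P_mem_parabolic ⟨i, hL i hi, rfl⟩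
  have := mul_mem hw (C.borel_le_parabolic (Fin.val '' K) (C.diagonal_le_borel h))
  rw [mul_inv_cancel_left] at this
  exact this

omit H in
theorem borG_le_parG : borG F C ≤ parG F C K := fun _ hx => C.borel_le_parabolic _ hx

omit H in
theorem parG_empty : parG F C (∅ : Set (Fin D.rank)) = borG F C := by
  refine le_antisymm (fun x hx => ?_) borG_le_parG
  have : D.parabolicSubgroup F (Fin.val '' (∅ : Set (Fin D.rank))) ≤ D.borelSubgroup F := by
    rw [C.parabolic_eq]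
    refine sup_le le_rfl ((Subgroup.closure_le _).2 ?_)
    rintro g ⟨j, hj, -⟩
    simp at hj
  exact this hx

omit H in
theorem parG_mono {K' : Set (Fin D.rank)} (h : K ⊆ K') : parG F C K ≤ parG F C K' := by
  intro x hx
  have : D.parabolicSubgroup F (Fin.val '' K) ≤ D.parabolicSubgroup F (Fin.val '' K') := by
    rw [C.parabolic_eq, C.parabolic_eq]
    refine sup_le_sup_left (Subgroup.closure_mono ?_) _
    rintro g ⟨j, hj, rfl⟩
    exact ⟨j, Set.image_mono h hj, rfl⟩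
  exact this hx

/-- P_K permutes the cells of a class W_K τ. -/
theorem parG_mul_cell {x y : ↥(D.group F)} (hx : x ∈ parG F C K) (hτ : τ ∈ C.WG)
    (hy : y ∈ Cell C F τ) : ∃ u ∈ WK C K, x * y ∈ Cell C F (u * τ) := by
  have key : ∀ k ∈ K, ∀ (y : ↥(D.group F)) (τ : Equiv.Perm (Rt D)), τ ∈ C.WG → y ∈ Cell C F τ →
      ∀ pk : ↥(D.group F), (pk : GL D.Idx F) = C.P F k →
      ∃ u ∈ WK C K, pk * y ∈ Cell C F (u * τ) := by
    intro k hk y τ hτ hy pk hpk
    obtain ⟨a, ha, b, hb, rfl⟩ := hy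
    have hP : C.Acts (pk : GL D.Idx F) (C.sref k) := by
      rw [hpk]; simpa [Core.wprod, Core.pprod] using C.acts_wprod F [k]
    rcases H.step k (nEl_monomial (C := C) τ) (b := (a : GL D.Idx F)) ha with h | h <;>
      obtain ⟨p, hp, q, hq, e⟩ := DoubleCoset.mem_doubleCoset.1 h
    · refine ⟨C.sref k, sref_mem_WK hk, ?_⟩
      have hmon : ((pk * nEl C F τ : ↥(D.group F)) : GL D.Idx F) ∈ D.monomialSubgroup F :=
        mul_mem (hpk ▸ C.P_mem_monomial k) (nEl_monomial τ)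
      have h1 := mem_cell_of_acts (C := C) hmon (C.acts_mul F hP (acts_nEl hτ))
        (mul_mem (sref_mem_WG k) hτ)
      have h2 := cell_mul_mem (C := C) (a := ⟨p, C.borel_le_group hp⟩)
        (b := ⟨q, C.borel_le_group hq⟩ * b) hp (mul_mem hq hb) h1
      convert h2 using 1
      apply Subtype.ext
      simp only [Subgroup.coe_mul]
      rw [hpk, ← mul_assoc, ← mul_assoc, e]
      group
    · refine ⟨1, one_mem _, ?_⟩
      rw [one_mul]
      have h2 := cell_mul_mem (C := C) (a := ⟨p, C.borel_le_group hp⟩)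
        (b := ⟨q, C.borel_le_group hq⟩ * b) hp (mul_mem hq hb) (nEl_mem_cell τ)
      convert h2 using 1
      apply Subtype.ext
      simp only [Subgroup.coe_mul]
      rw [hpk, ← mul_assoc, ← mul_assoc, e]
      group
  suffices main : ∀ g ∈ D.parabolicSubgroup F (Fin.val '' K), ∀ (x y : ↥(D.group F))
      (τ : Equiv.Perm (Rt D)), (x : GL D.Idx F) = g → τ ∈ C.WG → y ∈ Cell C F τ →
      ∃ u ∈ WK C K, x * y ∈ Cell C F (u * τ) from main _ hx x y τ rfl hτ hy
  intro g hg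
  rw [C.parabolic_eq, ← Subgroup.closure_eq (D.borelSubgroup F), ← Subgroup.closure_union] at hg
  have hmemG : ∀ {z : GL D.Idx F}, z ∈ Subgroup.closure ((D.borelSubgroup F : Set (GL D.Idx F)) ∪
      {g | ∃ j : Fin D.rank, (j : ℕ) ∈ Fin.val '' K ∧ g = C.P F j}) → z ∈ D.group F := by
    intro z hz
    rw [Subgroup.closure_union, Subgroup.closure_eq, ← C.parabolic_eq] at hz
    exact C.parabolic_le_group _ hz
  induction hg using Subgroup.closure_induction_left with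
  | one =>
    intro x y τ hx _ hy
    refine ⟨1, one_mem _, ?_⟩
    have : x = 1 := Subtype.ext hx
    rwa [this, one_mul, one_mul]
  | mul_left a ha z hz ih =>
    intro x y τ hx hτ hy
    have haG : a ∈ D.group F := hmemG (Subgroup.subset_closure ha)
    obtain ⟨u, hu, hzy⟩ := ih ⟨z, hmemG hz⟩ y τ rfl hτ hy
    have e : x * y = ⟨a, haG⟩ * (⟨z, hmemG hz⟩ * y) := by
      rw [← mul_assoc]; congr 1; exact Subtype.ext hx
    rw [e]
    rcases ha with ha | ⟨j, hj, rfl⟩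
    · refine ⟨u, hu, ?_⟩
      have h2 := cell_mul_mem (C := C) (a := ⟨a, haG⟩) (b := 1) ha (one_mem _) hzy
      rwa [mul_one] at h2
    · obtain ⟨i, hi, hij⟩ := hj
      obtain ⟨u', hu', h2⟩ := key j (Fin.ext hij ▸ hi) _ _ (mul_mem (WK_le_WG hu) hτ) hzy
        ⟨C.P F j, haG⟩ rfl
      exact ⟨u' * u, mul_mem hu' hu, by rwa [mul_assoc]⟩
  | inv_mul_cancel a ha z hz ih =>
    intro x y τ hx hτ hy
    have haG : a ∈ D.group F := hmemG (Subgroup.subset_closure ha)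
    obtain ⟨u, hu, hzy⟩ := ih ⟨z, hmemG hz⟩ y τ rfl hτ hy
    have e : x * y = ⟨a, haG⟩⁻¹ * (⟨z, hmemG hz⟩ * y) := by
      rw [← mul_assoc]; congr 1; exact Subtype.ext hx
    rw [e]
    rcases ha with ha | ⟨j, hj, rfl⟩
    · refine ⟨u, hu, ?_⟩
      have h2 := cell_mul_mem (C := C) (a := (⟨a, haG⟩ : ↥(D.group F))⁻¹) (b := 1)
        (inv_mem (show (⟨a, haG⟩ : ↥(D.group F)) ∈ borG F C from ha)) (one_mem _) hzy
      rwa [mul_one] at h2
    · obtain ⟨i, hi, hij⟩ := hj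
      obtain ⟨c, hc⟩ := C.P_inv F j
      have hzy' := cell_mul_mem (C := C) (a := 1) (b := 1) (one_mem _) (one_mem _) hzy
      obtain ⟨u', hu', h2⟩ := key j (Fin.ext hij ▸ hi) _ _ (mul_mem (WK_le_WG hu) hτ) hzy
        ⟨C.P F j, haG⟩ rfl
      refine ⟨u' * u, mul_mem hu' hu, ?_⟩
      have h3 := cell_mul_mem (C := C) (a := ⟨C.HT F c, C.HT_mem_group c⟩) (b := 1)
        (C.diagonal_le_borel (C.HT_mem_diagonal c)) (one_mem _) h2
      rw [mul_one, ← mul_assoc (⟨C.HT F c, C.HT_mem_group c⟩ : ↥(D.group F))] at h3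
      have e2 : (⟨C.P F j, haG⟩ : ↥(D.group F))⁻¹ =
          ⟨C.HT F c, C.HT_mem_group c⟩ * ⟨C.P F j, haG⟩ := Subtype.ext hc
      rw [e2, mul_assoc u' u τ]
      exact h3

theorem mem_parG_iff {x : ↥(D.group F)} :
    x ∈ parG F C K ↔ ∃ u ∈ WK C K, x ∈ Cell C F u := by
  constructor
  · intro hx
    obtain ⟨u, hu, h⟩ := parG_mul_cell H (K := K) hx (one_mem _)
      (mem_cell_one.2 (one_mem (borG F C)))
    rw [mul_one, mul_one] at h
    exact ⟨u, hu, h⟩
  · rintro ⟨u, hu, a, ha, b, hb, rfl⟩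
    exact mul_mem (mul_mem (borG_le_parG ha) (nEl_mem_parG hu)) (borG_le_parG hb)

theorem cell_mul_parG {x y : ↥(D.group F)} (hx : x ∈ parG F C M) (hτ : τ ∈ C.WG)
    (hy : y ∈ Cell C F τ) : ∃ v ∈ WK C M, y * x ∈ Cell C F (τ * v) := by
  obtain ⟨u, hu, h⟩ := parG_mul_cell H (inv_mem hx) (inv_mem hτ) (inv_mem_cell hτ hy)
  refine ⟨u⁻¹, inv_mem hu, ?_⟩
  have := inv_mem_cell (mul_mem (WK_le_WG hu) (inv_mem hτ)) h
  simpa using this

/-- The orbits of P_K on G/P_M are parametrised by the distinguished representatives. -/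
theorem exists_mem_orb (x : ↥(D.group F) ⧸ parG F C M) : ∃ d, IsRed C K M d ∧ x ∈ Orb C F K M d := by
  obtain ⟨g, rfl⟩ := QuotientGroup.mk_surjective x
  obtain ⟨σ, hσ, a, ha, b, hb, rfl⟩ := exists_cell H g
  obtain ⟨d, u, v, hd, hu, hv, rfl⟩ := exists_red (C := C) (K := K) (M := M) hσ
  refine ⟨_, hd, a * (nEl C F u)⁻¹ * ?_, ?_, ?_⟩
  · exact (nEl C F u * nEl C F σ * nEl C F v) * (nEl C F (u * σ * v))⁻¹
  · refine mul_mem (mul_mem (borG_le_parG ha) (inv_mem (nEl_mem_parG hu))) (borG_le_parG ?_)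
    exact mul_inv_mem_borG (n := nEl C F u * nEl C F σ * nEl C F v)
      (mul_mem (mul_mem (nEl_monomial u) (nEl_monomial σ)) (nEl_monomial v))
      (C.acts_mul F (C.acts_mul F (acts_nEl (WK_le_WG hu)) (acts_nEl hσ))
        (acts_nEl (WK_le_WG hv))) hd.1
  · rw [pt, MulAction.Quotient.smul_mk, QuotientGroup.eq]
    have e : ((a * (nEl C F u)⁻¹ * (nEl C F u * nEl C F σ * nEl C F v *
        (nEl C F (u * σ * v))⁻¹)) • nEl C F (u * σ * v))⁻¹ * (a * nEl C F σ * b) =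
        (nEl C F v)⁻¹ * b := by
      rw [smul_eq_mul]; group
    rw [e]
    exact mul_mem (inv_mem (nEl_mem_parG hv)) (borG_le_parG hb)

theorem orb_cell {g : ↥(D.group F)} (hd : d ∈ C.WG)
    (h : (QuotientGroup.mk g : ↥(D.group F) ⧸ parG F C M) ∈ Orb C F K M d) :
    ∃ u ∈ WK C K, ∃ v ∈ WK C M, g ∈ Cell C F (u * d * v) := by
  obtain ⟨p, hp, e⟩ := h
  rw [pt, MulAction.Quotient.smul_mk, QuotientGroup.eq, smul_eq_mul] at e
  obtain ⟨u, hu, h1⟩ := parG_mul_cell H hp hd (nEl_mem_cell d)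
  obtain ⟨v, hv, h2⟩ := cell_mul_parG H e (mul_mem (WK_le_WG hu) hd) h1
  rw [mul_inv_cancel_left] at h2
  exact ⟨u, hu, v, hv, h2⟩

theorem orb_unique {x : ↥(D.group F) ⧸ parG F C M} {d' : Equiv.Perm (Rt D)}
    (hd : IsRed C K M d) (hd' : IsRed C K M d') (h1 : x ∈ Orb C F K M d)
    (h2 : x ∈ Orb C F K M d') : d = d' := by
  obtain ⟨g, rfl⟩ := QuotientGroup.mk_surjective x
  obtain ⟨u, hu, v, hv, hg⟩ := orb_cell H hd.1 h1
  obtain ⟨u', hu', v', hv', hg'⟩ := orb_cell H hd'.1 h2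
  have e := cell_unique H (mul_mem (mul_mem (WK_le_WG hu) hd.1) (WK_le_WG hv))
    (mul_mem (mul_mem (WK_le_WG hu') hd'.1) (WK_le_WG hv')) hg hg'
  refine red_unique hd' hd (mul_mem (inv_mem hu) hu') (mul_mem hv' (inv_mem hv)) ?_
  calc d = u⁻¹ * (u * d * v) * v⁻¹ := by group
    _ = _ := by rw [e]; group

/-- The stabiliser in P_K of the base point lies in the parabolic of the intersection. -/
theorem stab_cell (hd : IsRed C K M d) {g : ↥(D.group F)} (hg : g ∈ parG F C K)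
    (hfix : g • pt C F M d = pt C F M d) :
    ∃ v ∈ WK C (inter C K M d), g ∈ Cell C F v := by
  obtain ⟨v, hv, hgv⟩ := (mem_parG_iff H).1 hg
  refine ⟨v, ?_, hgv⟩
  rw [pt, MulAction.Quotient.smul_mk, QuotientGroup.eq, smul_eq_mul] at hfix
  obtain ⟨w, hw, hgw⟩ := (mem_parG_iff H).1 hfix
  -- g * n_d lies in the cells of v d and of d w⁻¹
  have h1 : g * nEl C F d ∈ Cell C F (v * d) := by
    refine cell_mul H (WK_le_WG hv) hd.1 (fun r hr => ?_) hgv (nEl_mem_cell d)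
    refine pos_on_PhiK (inv_mem hd.1) hd.2.1 r hr.1 ?_
    by_contra hn
    exact (C.neg_iff_not_pos _).1 hr.2 (WK_pos hv hr.1 hn).1
  have h2 : g * nEl C F d ∈ Cell C F (d * w⁻¹) := by
    have h3 := cell_mul H hd.1 (inv_mem (WK_le_WG hw)) (fun r hr => ?_) (nEl_mem_cell (F := F) d)
      (inv_mem_cell (WK_le_WG hw) hgw)
    · rwa [mul_inv_rev, inv_inv, ← mul_assoc, mul_inv_cancel, one_mul] at h3
    · rw [inv_inv]
      refine (WK_pos hw hr.1 fun hrM => ?_).1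
      exact (C.neg_iff_not_pos _).1 hr.2 (pos_on_PhiK hd.1 hd.2.2 r hr.1 hrM)
  have e := cell_unique H (mul_mem (WK_le_WG hv) hd.1) (mul_mem hd.1 (inv_mem (WK_le_WG hw))) h1 h2
  refine mem_WK_inter hd v hv ?_
  rw [mul_assoc, e, inv_mul_cancel_left]
  exact inv_mem hw

theorem stab_borel (hd : IsRed C ∅ M d) {g : ↥(D.group F)} (hg : g ∈ borG F C)
    (hfix : g • pt C F M d = pt C F M d) : (nEl C F d)⁻¹ * g * nEl C F d ∈ borG F C := by
  rw [pt, MulAction.Quotient.smul_mk, QuotientGroup.eq, smul_eq_mul] at hfix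
  obtain ⟨w, hw, hgw⟩ := (mem_parG_iff H).1 hfix
  have h1 : g * nEl C F d ∈ Cell C F d := ⟨g, hg, 1, one_mem _, by group⟩
  have h2 : g * nEl C F d ∈ Cell C F (d * w⁻¹) := by
    have h3 := cell_mul H hd.1 (inv_mem (WK_le_WG hw)) (fun r hr => ?_) (nEl_mem_cell (F := F) d)
      (inv_mem_cell (WK_le_WG hw) hgw)
    · rwa [mul_inv_rev, inv_inv, ← mul_assoc, mul_inv_cancel, one_mul] at h3
    · rw [inv_inv]
      refine (WK_pos hw hr.1 fun hrM => ?_).1
      exact (C.neg_iff_not_pos _).1 hr.2 (pos_on_PhiK hd.1 hd.2.2 r hr.1 hrM)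
  have e := cell_unique H hd.1 (mul_mem hd.1 (inv_mem (WK_le_WG hw))) h1 h2
  rw [left_eq_mul, inv_eq_one] at e
  rw [e] at hgw
  have := inv_mem (mem_cell_one.1 hgw)
  rw [mul_inv_rev, inv_inv, ← mul_assoc] at this
  exact this

theorem radK_le_borG : uG C F (radK C K) ≤ borG F C :=
  fun _ hx => C.posUS_le_borel (C.US_mono F (fun _ hr => hr.1) hx)

theorem parG_normalizes {p u : ↥(D.group F)} (hp : p ∈ parG F C K) (hu : u ∈ uG C F (radK C K)) :
    p * u * p⁻¹ ∈ uG C F (radK C K) :=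
  (Subgroup.mem_normalizer_iff.1 (H.parabolic_le_normalizer _ hp) _).1 hu

theorem exists_rad_levi {p : ↥(D.group F)} (hp : p ∈ parG F C K) :
    ∃ u ∈ uG C F (radK C K), ∃ l : ↥(D.group F),
      (l : GL D.Idx F) ∈ D.leviSubgroup F (Fin.val '' K) ∧ l ∈ parG F C K ∧ p = u * l := by
  have h : (p : GL D.Idx F) ∈ C.US F (radK C K) ⊔ D.leviSubgroup F (Fin.val '' K) := by
    rw [H.radical_sup_levi]; exact hp
  have hN : D.leviSubgroup F (Fin.val '' K) ≤
      Subgroup.normalizer (C.US F (radK C K) : Set (GL D.Idx F)) := by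
    refine le_trans ?_ (H.parabolic_le_normalizer _)
    rw [← H.radical_sup_levi]; exact le_sup_right
  rw [← SetLike.mem_coe, Subgroup.coe_mul_of_right_le_normalizer_left _ _ hN, Set.mem_mul] at h
  obtain ⟨u, hu, l, hl, e⟩ := h
  have hlP : l ∈ D.parabolicSubgroup F (Fin.val '' K) := by
    rw [← H.radical_sup_levi]; exact Subgroup.mem_sup_right hl
  exact ⟨⟨u, C.US_le_group _ hu⟩, hu, ⟨l, C.parabolic_le_group _ hlP⟩, hl, hlP, Subtype.ext e.symm⟩

omit H in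
theorem levi_fix (hd : IsRed C K M d) (hfull : ∀ k ∈ K, d⁻¹ (C.p k) ∈ PhiK C M)
    {l : ↥(D.group F)} (hl : (l : GL D.Idx F) ∈ D.leviSubgroup F (Fin.val '' K)) :
    l • pt C F M d = pt C F M d := by
  have hΦ : ∀ r ∈ PhiK C K, d⁻¹ r ∈ PhiK C M := by
    intro r hr
    refine PhiK_iff.2 fun i hi => ?_
    rw [wg_v (inv_mem hd.1)]
    refine Finset.sum_eq_zero fun k _ => ?_
    by_cases hk : k ∈ K
    · rw [PhiK_iff.1 (hfull k hk) i hi, mul_zero]
    · rw [PhiK_iff.1 hr k hk, zero_mul]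
  set n := (nEl C F d : GL D.Idx F) with hn
  have hle : D.leviSubgroup F (Fin.val '' K) ≤
      (D.parabolicSubgroup F (Fin.val '' M)).comap (MulAut.conj n⁻¹).toMonoidHom := by
    rw [C.levi_eq]
    refine sup_le (fun h hh => ?_) ((Subgroup.closure_le _).2 ?_)
    · exact C.borel_le_parabolic _ (C.diagonal_le_borel
        (C.conj_diagonal (inv_mem (nEl_monomial d)) hh))
    · rintro g ⟨r, hr, t, rfl⟩
      obtain ⟨e, he⟩ := C.acts_inv F (acts_nEl (F := F) hd.1) r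
      show n⁻¹ * C.X F r t * n⁻¹⁻¹ ∈ D.parabolicSubgroup F (Fin.val '' M)
      rw [hn, he, C.parabolic_eq_generated]
      exact Subgroup.mem_sup_right (C.X_mem_US F (S := C.Pos ∪ C.PJ (Fin.val '' M))
        (Or.inr (hΦ r hr)) _)
  have h2 : (n⁻¹ * (l : GL D.Idx F) * n⁻¹⁻¹)⁻¹ ∈ D.parabolicSubgroup F (Fin.val '' M) :=
    inv_mem (hle hl)
  rw [pt, MulAction.Quotient.smul_mk, QuotientGroup.eq, smul_eq_mul]
  show ((l * nEl C F d)⁻¹ * nEl C F d : ↥(D.group F)).1 ∈ D.parabolicSubgroup F (Fin.val '' M)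
  convert h2 using 1
  simp [hn, mul_assoc]

end Cfsg.Agent.Lib.Steinberg
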