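import Cfsg.Agent.Lib.Steinberg.Values
import Cfsg.Agent.Lib.ChevBorelTits.Main
import Cfsg.Agent.Lib.ChevBorelTits.Final
import Cfsg.Agent.Lib.Coprime.Glauberman

/-!
The Steinberg character vanishes at p-singular elements and takes the value ±|C(g)|_p at p-regular
elements.
-/

set_option autoImplicit false
set_option linter.unusedSectionVars false

namespace Cfsg.Agent.Lib.Steinberg

open Cfsg.Lie Cfsg.Agent.Lib.ChevStructure
open scoped MatrixGroups Classical

variable {D : ChevalleyDatum} {C : Core D} {F : Type*} [Field F]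
variable {K M J : Set (Fin D.rank)} {g : ↥(D.group F)}
variable (H : CommOK C) [Fintype F]
include H

/-- The radicals are p-groups. -/
theorem isPGroup_uG (p : ℕ) [Fact p.Prime] [CharP F p] {S : Set (Rt D)} (hS : S ⊆ C.Pos) :
    IsPGroup p ↥(uG C F S) := by
  obtain ⟨m, -, hm⟩ := FiniteField.card F p
  have h : IsPGroup p ↥((C.US F C.Pos).subgroupOf (D.group F)) := by
    refine IsPGroup.of_card (n := (m : ℕ) * (D.nroots / 2)) ?_
    rw [Nat.card_congr (Subgroup.subgroupOfEquivOfLe (C.US_le_group C.Pos)).toEquiv, H.card_posUS,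
      Nat.card_eq_fintype_card, hm, ← pow_mul]
  exact h.to_le fun x hx => C.US_mono F hS hx

/-- A minimal K with a conjugate in P_K is elliptic. -/
theorem exists_elliptic (g : ↥(D.group F)) {J : Finset (Fin D.rank)}
    (hg : g ∈ parG F C (J : Set (Fin D.rank))) :
    ∃ (K : Finset (Fin D.rank)) (a : ↥(D.group F)), K ⊆ J ∧
      a ∈ parG F C (J : Set (Fin D.rank)) ∧
      Elliptic C F (K : Set (Fin D.rank)) (a⁻¹ * g * a) := by
  obtain ⟨K, hK, hmin⟩ := Finset.exists_min_image
    (J.powerset.filter fun K : Finset (Fin D.rank) => ∃ a ∈ parG F C (J : Set (Fin D.rank)),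
      a⁻¹ * g * a ∈ parG F C (K : Set (Fin D.rank))) Finset.card
    ⟨J, Finset.mem_filter.2 ⟨Finset.mem_powerset.2 (Finset.Subset.refl J),
      1, one_mem _, by simpa using hg⟩⟩
  obtain ⟨hKJ, a, ha, haK⟩ := Finset.mem_filter.1 hK
  rw [Finset.mem_powerset] at hKJ
  refine ⟨K, a, hKJ, ha, haK, fun K' hK' hne p hp hmem => ?_⟩
  lift K' to Finset (Fin D.rank) using Set.toFinite K'
  rw [Finset.coe_subset] at hK'
  have hlt : K'.card < K.card := Finset.card_lt_card (lt_of_le_of_ne hK' fun e => hne (by rw [e]))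
  have hpJ : p ∈ parG F C (J : Set (Fin D.rank)) := parG_mono (Finset.coe_subset.2 hKJ) hp
  have := hmin K' (Finset.mem_filter.2 ⟨Finset.mem_powerset.2 (hK'.trans hKJ), a * p,
    mul_mem ha hpJ, by
      convert hmem using 1
      group⟩)
  omega

/-- The Steinberg character vanishes at p-singular elements. -/
theorem stZ_eq_zero (p : ℕ) [Fact p.Prime] [CharP F p] (g : ↥(D.group F)) (hg : p ∣ orderOf g) :
    stZ C F g = 0 := by
  obtain ⟨m, hm⟩ := hg
  set u : ↥(D.group F) := g ^ m with hu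
  have hup : u ^ p = 1 := by rw [hu, ← pow_mul, mul_comm, ← hm, pow_orderOf_eq_one]
  have hu1 : u ≠ 1 := by
    intro h
    have hd := orderOf_dvd_of_pow_eq_one h
    have hpos : 0 < orderOf g := orderOf_pos g
    have hm0 : 0 < m := by
      rcases Nat.eq_zero_or_pos m with h0 | h0
      · rw [h0, mul_zero] at hm; omega
      · exact h0
    have := Nat.le_of_dvd hm0 hd
    have hp2 := (Fact.out (p := p.Prime)).two_le
    have : 2 * m ≤ p * m := Nat.mul_le_mul_right m hp2
    omega
  set R : Subgroup (GL D.Idx F) := (Subgroup.zpowers u).map (D.group F).subtype with hR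
  have hRG : R ≤ D.group F := Subgroup.map_subtype_le _
  have hRp : IsPGroup p R := by
    refine (IsPGroup.of_card (n := 1) ?_).map _
    rw [pow_one, Nat.card_zpowers, orderOf_eq_prime hup hu1]
  have hRne : R ≠ ⊥ := by
    rw [hR, Ne, (Subgroup.map_eq_bot_iff_of_injective _ (D.group F).subtype_injective)]
    exact fun h => hu1 (by rwa [Subgroup.zpowers_eq_bot] at h)
  obtain ⟨a, haG, J0, ⟨i0, hi0, hi0J⟩, hN, hU⟩ := Lib.ChevBorelTits.borel_tits C F H
    (Lib.ChevBorelTits.bruHyp H F) (Lib.ChevBorelTits.parHyp H F) p R hRG hRp hRne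
  set J : Finset (Fin D.rank) := Finset.univ.filter fun i => (i : ℕ) ∈ J0 with hJ
  have hJ0 : D.parabolicSubgroup F J0 = D.parabolicSubgroup F (Fin.val '' (J : Set (Fin D.rank))) := by
    rw [C.parabolic_eq, C.parabolic_eq]
    congr 2
    ext x
    constructor <;> rintro ⟨j, hj, rfl⟩
    · exact ⟨j, ⟨j, by simpa [hJ] using hj, rfl⟩, rfl⟩
    · obtain ⟨i, hi, hij⟩ := hj
      refine ⟨j, ?_, rfl⟩
      rw [← hij]
      simpa [hJ] using hi
  have hUJ : C.UJ J0 = radK C (J : Set (Fin D.rank)) := by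
    ext r
    refine and_congr_right fun _ => not_congr ?_
    rw [Core.mem_PJ, Core.mem_PJ]
    constructor
    · intro h i hi
      exact h i fun h' => hi ⟨i, by simpa [hJ] using h', rfl⟩
    · intro h i hi
      refine h i ?_
      rintro ⟨j, hj, hji⟩
      exact hi (hji ▸ (by simpa [hJ] using hj))
  let a' : ↥(D.group F) := ⟨a, haG⟩
  have hgP : a'⁻¹ * g * a' ∈ parG F C (J : Set (Fin D.rank)) := by
    have hgN : (g : GL D.Idx F) ∈ Subgroup.normalizer (R : Set (GL D.Idx F)) ⊓ D.group F := by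
      refine ⟨?_, g.2⟩
      show (g : GL D.Idx F) ∈ Subgroup.normalizer (R : Set (GL D.Idx F))
      refine Subgroup.centralizer_le_normalizer _ ?_
      rw [Subgroup.mem_centralizer_iff]
      rintro x ⟨y, ⟨k, rfl⟩, rfl⟩
      have : (g ^ m) ^ k * g = g * (g ^ m) ^ k :=
        (((Commute.refl g).pow_left m).zpow_left k).eq
      exact congrArg Subtype.val this
    have := hN hgN
    rw [Subgroup.mem_map_equiv, MulAut.conj_symm_apply] at this
    show a⁻¹ * (g : GL D.Idx F) * a ∈ D.parabolicSubgroup F (Fin.val '' (J : Set (Fin D.rank)))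
    rw [← hJ0]
    exact this
  have huJ : a'⁻¹ * u * a' ∈ uG C F (radK C (J : Set (Fin D.rank))) := by
    have := hU (show (u : GL D.Idx F) ∈ R from ⟨u, Subgroup.mem_zpowers u, rfl⟩)
    rw [C.unipotentRadical_eq, hUJ, Subgroup.mem_map_equiv, MulAut.conj_symm_apply] at this
    exact this
  obtain ⟨K, b, hKJ, hb, hell⟩ := exists_elliptic H (a'⁻¹ * g * a') hgP
  have e : stZ C F g = stZ C F (b⁻¹ * (a'⁻¹ * g * a') * b) := by
    rw [← stZ_conj (a' * b)⁻¹ g]
    congr 1
    group
  rw [e, master H K hell]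
  suffices h : ¬ (OrbFix C F (K : Set (Fin D.rank)) (mTop C (K : Set (Fin D.rank)))
      (dTop C (K : Set (Fin D.rank))) (b⁻¹ * (a'⁻¹ * g * a') * b)).Nonempty by
    rw [Set.not_nonempty_iff_eq_empty.1 h, Set.ncard_empty, Nat.cast_zero, mul_zero]
  rintro ⟨x, hx, hgx⟩
  obtain ⟨v, hv, rfl⟩ := exists_rad_fix H dTop_red (top_full H) hx
  set h0 := b⁻¹ * (a'⁻¹ * g * a') * b with hh0
  have hw : h0 ^ m = b⁻¹ * (a'⁻¹ * u * a') * b := by
    have h1 := map_pow (MulAut.conj (a' * b)⁻¹) g m
    simp only [MulAut.conj_apply, inv_inv] at h1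
    rw [← hu] at h1
    have e1 : h0 = (a' * b)⁻¹ * g * (a' * b) := by rw [hh0]; group
    rw [e1, ← h1]
    group
  have hwK : h0 ^ m ∈ uG C F (radK C (K : Set (Fin D.rank))) := by
    rw [hw]
    have h1 := parG_normalizes H (inv_mem hb) huJ
    rw [inv_inv] at h1
    have hsub : radK C (J : Set (Fin D.rank)) ⊆ radK C (K : Set (Fin D.rank)) :=
      fun r hr => ⟨hr.1, fun h => hr.2 (PhiK_mono (Finset.coe_subset.2 hKJ) h)⟩
    exact C.US_mono F hsub h1
  have hfix : (v⁻¹ * h0 ^ m * v) • pt C F (mTop C (K : Set (Fin D.rank)))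
      (dTop C (K : Set (Fin D.rank))) = pt C F (mTop C (K : Set (Fin D.rank)))
      (dTop C (K : Set (Fin D.rank))) := by
    have h2 : ∀ n : ℕ, h0 ^ n • (v • pt C F (mTop C (K : Set (Fin D.rank)))
        (dTop C (K : Set (Fin D.rank)))) = v • pt C F (mTop C (K : Set (Fin D.rank)))
        (dTop C (K : Set (Fin D.rank))) := by
      intro n
      induction n with
      | zero => rw [pow_zero, one_smul]
      | succ n ih => rw [pow_succ, mul_smul, hgx, ih]
    rw [mul_smul, mul_smul, h2 m, inv_smul_smul]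
  have h3 := rad_free H (mul_mem (mul_mem (inv_mem hv) hwK) hv) hfix
  apply hu1
  have h4 : h0 ^ m = 1 := by
    calc h0 ^ m = v * (v⁻¹ * h0 ^ m * v) * v⁻¹ := by group
      _ = 1 := by rw [h3]; group
  rw [hw] at h4
  calc u = (a' * b) * (b⁻¹ * (a'⁻¹ * u * a') * b) * (a' * b)⁻¹ := by group
    _ = 1 := by rw [h4]; group

/-- The value at a p-regular element is divisible by the p-part of the centraliser's order. -/
theorem dvd_stZ (p : ℕ) [Fact p.Prime] [CharP F p] (g : ↥(D.group F)) (hg : ¬ p ∣ orderOf g) :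
    ((p ^ (Nat.card ↥(Subgroup.centralizer ({g} : Set ↥(D.group F)))).factorization p : ℕ) : ℤ) ∣
      stZ C F g := by
  set Cg := Subgroup.centralizer ({g} : Set ↥(D.group F)) with hCg
  obtain ⟨Q⟩ : Nonempty (Sylow p ↥Cg) := inferInstance
  set Q' : Subgroup ↥(D.group F) := (Q : Subgroup ↥Cg).map Cg.subtype with hQ'
  haveI : Fintype ↥Q' := Fintype.ofFinite _
  have hcard : Nat.card ↥Q' = p ^ (Nat.card ↥Cg).factorization p := by
    rw [hQ', Nat.card_congr ((Q : Subgroup ↥Cg).equivMapOfInjective _ Cg.subtype_injective).toEquiv.symm]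
    exact Q.card_eq_multiplicity
  have hcomm : ∀ x : ↥Q', Commute g (x : ↥(D.group F)) := fun x =>
    (Subgroup.mem_centralizer_singleton_iff.1 (Subgroup.map_subtype_le _ x.2)).symm
  have hxp : ∀ x : ↥Q', ∃ k, orderOf (x : ↥(D.group F)) = p ^ k := fun x => by
    obtain ⟨k, hk⟩ := IsPGroup.iff_orderOf.1 (Q.2.map Cg.subtype) x
    exact ⟨k, (Subgroup.orderOf_coe x).trans hk⟩
  have hterm : ∀ M : Finset (Fin D.rank),
      ((Nat.card ↥Q' : ℕ) : ℤ) ∣ ∑ x : ↥Q', (fixCount C F (M : Set (Fin D.rank)) (g * x) : ℤ) := by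
    intro M
    let S := MulAction.fixedBy (↥(D.group F) ⧸ parG F C (M : Set (Fin D.rank))) g
    let act : MulAction ↥Q' S :=
      { smul := fun x s => ⟨(x : ↥(D.group F)) • s.1, by
          have hs : g • s.1 = s.1 := s.2
          show g • ((x : ↥(D.group F)) • s.1) = _
          rw [← mul_smul, (hcomm x).eq, mul_smul, hs]⟩
        one_smul := fun s => Subtype.ext (one_smul _ s.1)
        mul_smul := fun x y s => Subtype.ext (mul_smul (x : ↥(D.group F)) (y : ↥(D.group F)) s.1) }
    letI := act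
    haveI : Fintype S := Fintype.ofFinite _
    have hB := MulAction.sum_card_fixedBy_eq_card_orbits_mul_card_group ↥Q' S
    have e : ∀ x : ↥Q', fixCount C F (M : Set (Fin D.rank)) (g * x) =
        Fintype.card (MulAction.fixedBy S x) := by
      intro x
      rw [← Nat.card_eq_fintype_card, fixCount]
      have hcop : (orderOf g).Coprime (orderOf (x : ↥(D.group F))) := by
        obtain ⟨k, hk⟩ := hxp x
        rw [hk]
        exact Nat.Coprime.pow_right k (((Fact.out : p.Prime).coprime_iff_not_dvd.2 hg).symm)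
      have hboth : ∀ y : ↥(D.group F) ⧸ parG F C (M : Set (Fin D.rank)), (g * x) • y = y ↔ g • y = y ∧ (x : ↥(D.group F)) • y = y := by
        intro y
        refine ⟨fun h => ?_, fun ⟨h1, h2⟩ => by rw [mul_smul, h2, h1]⟩
        have h' : g • y = y := by
          obtain ⟨k, hk⟩ := mem_zpowers_mul (hcomm x) hcop
          have hst : g * x ∈ MulAction.stabilizer ↥(D.group F) y := h
          have := zpow_mem hst k
          simp only at hk
          rw [hk] at this
          exact this
        refine ⟨h', ?_⟩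
        rw [(hcomm x).eq, mul_smul, h'] at h
        exact h
      refine Nat.card_congr ⟨fun y => ⟨⟨y.1, ((hboth y.1).1 y.2).1⟩,
        Subtype.ext ((hboth y.1).1 y.2).2⟩,
        fun y => ⟨y.1.1, (hboth y.1.1).2 ⟨y.1.2, congrArg Subtype.val y.2⟩⟩,
        fun y => rfl, fun y => rfl⟩
    rw [← Nat.cast_sum, Finset.sum_congr rfl fun x _ => e x, hB, Nat.card_eq_fintype_card,
      Nat.cast_mul]
    exact Dvd.intro_left _ rfl
  have hsum : stZ C F g = ∑ x : ↥Q', stZ C F (g * (x : ↥(D.group F))) := by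
    rw [Finset.sum_eq_single (1 : ↥Q')]
    · simp
    · intro x _ hx
      refine stZ_eq_zero H p _ ?_
      obtain ⟨k, hk⟩ := hxp x
      have hk0 : k ≠ 0 := by
        rintro rfl
        rw [pow_zero, orderOf_eq_one_iff] at hk
        exact hx (Subtype.ext hk)
      have hcop : (orderOf g).Coprime (orderOf (x : ↥(D.group F))) := by
        rw [hk]
        exact Nat.Coprime.pow_right k (((Fact.out : p.Prime).coprime_iff_not_dvd.2 hg).symm)
      rw [(hcomm x).orderOf_mul_eq_mul_orderOf_of_coprime hcop, hk]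
      exact (dvd_pow_self p hk0).mul_left _
    · simp
  rw [← hcard, hsum]
  simp only [stZ]
  rw [Finset.sum_comm]
  refine Finset.dvd_sum fun M _ => ?_
  rw [← Finset.mul_sum]
  exact (hterm M).mul_left _

/-- The value at a p-regular element. -/
theorem stZ_semisimple (p : ℕ) [Fact p.Prime] [CharP F p] (g : ↥(D.group F))
    (hg : ¬ p ∣ orderOf g) :
    stZ C F g = ((p ^ (Nat.card ↥(Subgroup.centralizer ({g} : Set ↥(D.group F)))).factorization p : ℕ) : ℤ) ∨
      stZ C F g = -((p ^ (Nat.card ↥(Subgroup.centralizer ({g} : Set ↥(D.group F)))).factorization p : ℕ) : ℤ) := by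
  set P : ℕ := p ^ (Nat.card ↥(Subgroup.centralizer ({g} : Set ↥(D.group F)))).factorization p with hP
  obtain ⟨K, a, -, -, hell⟩ := exists_elliptic H g (J := Finset.univ)
    (by rw [Finset.coe_univ, parG_univ H]; exact Subgroup.mem_top g)
  set h := a⁻¹ * g * a with hh
  set Ks : Set (Fin D.rank) := (K : Set (Fin D.rank)) with hKs
  have e : stZ C F g = stZ C F h := by
    rw [hh, ← stZ_conj a⁻¹ g, inv_inv]
  have hhord : ¬ p ∣ orderOf h := by
    have : orderOf h = orderOf g := by
      rw [hh, show a⁻¹ * g * a = MulAut.conj a⁻¹ g by simp, MulEquiv.orderOf_eq]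
    rwa [this]
  -- Glauberman: h fixes a point of the regular orbit of the radical
  set U := uG C F (radK C Ks) with hU
  have hUp : IsPGroup p ↥U := isPGroup_uG H p fun r hr => hr.1
  have hne : (OrbFix C F Ks (mTop C Ks) (dTop C Ks) h).Nonempty := by
    have hUK : ∀ u ∈ U, u ∈ parG F C Ks := fun u hu => borG_le_parG (radK_le_borG H hu)
    have hcop : (Nat.card ↥(Subgroup.zpowers h)).Coprime (Nat.card ↥U) := by
      obtain ⟨k, hk⟩ := IsPGroup.iff_card.1 hUp
      rw [Nat.card_zpowers, hk]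
      exact Nat.Coprime.pow_right k (((Fact.out : p.Prime).coprime_iff_not_dvd.2 hhord).symm)
    have hnorm : Subgroup.zpowers h ≤ Subgroup.normalizer (U : Set ↥(D.group F)) := by
      rw [Subgroup.zpowers_le]
      refine Subgroup.mem_normalizer_iff.2 fun n => ⟨fun hn => parG_normalizes H hell.1 hn, fun hn => ?_⟩
      have := parG_normalizes H (inv_mem hell.1) hn
      rw [hU]
      convert this using 1
      group
    obtain ⟨x, hx, hfix⟩ := Lib.Coprime.exists_fixed_point
      (Orb C F Ks (mTop C Ks) (dTop C Ks)) ⟨_, 1, one_mem _, rfl⟩ hnorm hcop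
      (Or.inl (Lib.Coprime.isSolvable_zpowers h))
      (fun z hz y hy => by
        obtain ⟨q, hq, rfl⟩ := hy
        exact ⟨z * q, mul_mem ((Subgroup.zpowers_le.2 hell.1) hz) hq, mul_smul _ _ _⟩)
      (fun k hk y hy => by
        obtain ⟨q, hq, rfl⟩ := hy
        exact ⟨k * q, mul_mem (hUK k hk) hq, mul_smul _ _ _⟩)
      (fun y hy z hz => by
        obtain ⟨u, hu, rfl⟩ := exists_rad_fix H dTop_red (top_full H) hy
        obtain ⟨v, hv, rfl⟩ := exists_rad_fix H dTop_red (top_full H) hz
        exact ⟨v * u⁻¹, mul_mem hv (inv_mem hu), by rw [mul_smul, inv_smul_smul]⟩)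
    exact ⟨x, hx, hfix h (Subgroup.mem_zpowers h)⟩
  obtain ⟨u, hu, hc⟩ := orbFix_eq_card H hell.1 hne
  set c := (OrbFix C F Ks (mTop C Ks) (dTop C Ks) h).ncard with hcdef
  set T := Subgroup.centralizer ({u⁻¹ * h * u} : Set ↥(D.group F)) with hT
  have hcT : c ∣ Nat.card ↥T := by
    rw [hc]; exact Subgroup.card_dvd_of_le inf_le_right
  have hcardT : Nat.card ↥T = Nat.card ↥(Subgroup.centralizer ({g} : Set ↥(D.group F))) := by
    set k := (a * u)⁻¹ with hk
    have hmap : T = (Subgroup.centralizer ({g} : Set ↥(D.group F))).map (MulAut.conj k).toMonoidHom := by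
      ext z
      rw [Subgroup.mem_map_equiv, MulAut.conj_symm_apply, Subgroup.mem_centralizer_singleton_iff,
        Subgroup.mem_centralizer_singleton_iff]
      have e1 : u⁻¹ * h * u = k * g * k⁻¹ := by rw [hh, hk]; group
      rw [e1]
      constructor
      · intro hz
        calc k⁻¹ * z * k * g = k⁻¹ * (z * (k * g * k⁻¹)) * k := by group
          _ = k⁻¹ * (k * g * k⁻¹ * z) * k := by rw [hz]
          _ = g * (k⁻¹ * z * k) := by group
      · intro hz
        calc z * (k * g * k⁻¹) = k * (k⁻¹ * z * k * g) * k⁻¹ := by group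
          _ = k * (g * (k⁻¹ * z * k)) * k⁻¹ := by rw [hz]
          _ = k * g * k⁻¹ * z := by group
    rw [hmap]
    exact (Nat.card_congr ((Subgroup.centralizer ({g} : Set ↥(D.group F))).equivMapOfInjective _
      (MulAut.conj k).injective).toEquiv).symm
  obtain ⟨j, hj⟩ : ∃ j, c = p ^ j := by
    obtain ⟨i, hi⟩ := IsPGroup.iff_card.1 (hUp.to_le (inf_le_left (b := T)))
    exact ⟨i, by rw [hc]; exact hi⟩
  have hcP : c ∣ P := by
    rw [hcardT, hj] at hcT
    rw [hj, hP]
    exact Nat.pow_dvd_pow p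
      (((Fact.out : p.Prime).pow_dvd_iff_le_factorization Nat.card_pos.ne').1 hcT)
  have hval : stZ C F g = (-1) ^ K.card * (c : ℤ) := by rw [e, master H K hell]
  have hPc : (P : ℤ) ∣ (c : ℤ) := by
    have h1 := dvd_stZ H p g hg
    rw [hval] at h1
    rcases neg_one_pow_eq_or ℤ K.card with h2 | h2 <;> rw [h2] at h1
    · rwa [one_mul] at h1
    · rwa [neg_one_mul, dvd_neg] at h1
  have hcc : c = P := Nat.dvd_antisymm hcP (Int.natCast_dvd_natCast.1 hPc)
  rcases neg_one_pow_eq_or ℤ K.card with h2 | h2 <;> rw [h2, hcc] at hval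
  · left; rw [hval, one_mul]
  · right; rw [hval, neg_one_mul]

end Cfsg.Agent.Lib.Steinberg
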