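import Cfsg.Agent.Lib.Steinberg.Master
import Cfsg.Prelude.Def_ParabolicCharacters

/-!
The Steinberg character of a Chevalley group: bridge to the definition, the regular orbit of the
radical, class-function and orbit-counting lemmas.
-/

set_option autoImplicit false
set_option linter.unusedSectionVars false

namespace Cfsg.Agent.Lib.Steinberg

open Cfsg.Lie Cfsg.Agent.Lib.ChevStructure
open scoped MatrixGroups Classical

variable {D : ChevalleyDatum} {C : Core D} {F : Type*} [Field F]
variable {K M J : Set (Fin D.rank)} {d : Equiv.Perm (Rt D)} {g : ↥(D.group F)}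

theorem steinbergCharacter_eq (C : Core D) (g : ↥(D.group F)) :
    D.steinbergCharacter F g = (stZ C F g : ℂ) := by
  rw [ChevalleyDatum.steinbergCharacter, stZ]
  push_cast
  symm
  refine Finset.sum_bij (fun (M : Finset (Fin D.rank)) _ => M.map Fin.valEmbedding) (fun M _ => ?_)
    (fun a _ b _ e => Finset.map_injective _ e) (fun N hN => ?_) (fun M _ => ?_)
  · rw [Finset.mem_powerset]
    intro x hx
    obtain ⟨i, -, rfl⟩ := Finset.mem_map.1 hx
    simp
  · rw [Finset.mem_powerset] at hN
    refine ⟨Finset.univ.filter fun i => (i : ℕ) ∈ N, Finset.mem_powerset.2 (Finset.subset_univ _), ?_⟩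
    ext x
    simp only [Finset.mem_map, Finset.mem_filter, Finset.mem_univ, true_and, Fin.valEmbedding_apply]
    exact ⟨fun ⟨i, hi, e⟩ => e ▸ hi, fun hx => ⟨⟨x, Finset.mem_range.1 (hN hx)⟩, hx, rfl⟩⟩
  · rw [Finset.card_map, ChevalleyDatum.parabolicIn, Finset.coe_map]
    rfl

/-- Conjugation permutes fixed points. -/
theorem fixCount_conj (a g : ↥(D.group F)) :
    fixCount C F M (a * g * a⁻¹) = fixCount C F M g := by
  refine (Nat.card_congr (Equiv.subtypeEquiv (MulAction.toPerm a) fun x => ?_)).symm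
  simp only [MulAction.mem_fixedBy, MulAction.toPerm_apply]
  rw [mul_smul, mul_smul, inv_smul_smul, smul_left_cancel_iff]

theorem stZ_conj (a g : ↥(D.group F)) : stZ C F (a * g * a⁻¹) = stZ C F g :=
  Finset.sum_congr rfl fun M _ => by rw [fixCount_conj]

theorem elliptic_empty (hg : g ∈ borG F C) :
    Elliptic C F ((∅ : Finset (Fin D.rank)) : Set (Fin D.rank)) g := by
  refine ⟨by rw [Finset.coe_empty, parG_empty]; exact hg, fun K' hK' hne => ?_⟩
  exfalso
  rw [Finset.coe_empty] at hK' hne
  exact hne (Set.subset_empty_iff.1 hK')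

theorem radK_empty : radK C (∅ : Set (Fin D.rank)) = C.Pos := by
  refine Set.Subset.antisymm (fun r hr => hr.1) fun r hr => ⟨hr, fun h => ?_⟩
  refine C.v_ne_zero r (funext fun i => ?_)
  exact (PhiK_iff (C := C) (K := (∅ : Set (Fin D.rank)))).1 h i (Set.notMem_empty i)

theorem long_eq_dTop : dTop C (∅ : Set (Fin D.rank)) = long C := by
  have : longK C (∅ : Set (Fin D.rank)) = 1 := by
    refine eq_one_of_pos (WK_le_WG longK_mem) fun i => (WK_pos longK_mem (C.p_pos i) ?_).1
    exact fun h => Set.notMem_empty i (p_mem_PhiK_iff.1 h)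
  rw [dTop, this, inv_one, one_mul]

/-- An element of finite order prime to that of a commuting element is a power of the product. -/
theorem mem_zpowers_mul {G : Type*} [Group G] [Finite G] {a b : G} (h : Commute a b)
    (hcop : (orderOf a).Coprime (orderOf b)) : a ∈ Subgroup.zpowers (a * b) := by
  obtain ⟨m, h1, h2⟩ := Nat.chineseRemainder hcop 1 0
  refine ⟨(m : ℤ), ?_⟩
  show (a * b) ^ (m : ℤ) = a
  rw [zpow_natCast, h.mul_pow, pow_eq_pow_iff_modEq.2 h1, pow_eq_pow_iff_modEq.2 h2, pow_one,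
    pow_zero, mul_one]

variable (H : CommOK C)
include H

/-- The parabolic of all fundamental roots is everything. -/
theorem parG_univ : parG F C Set.univ = ⊤ := by
  rw [eq_top_iff]
  intro x _
  obtain ⟨σ, hσ, hx⟩ := exists_cell H x
  exact (mem_parG_iff H).2 ⟨σ, by rwa [WK_univ], hx⟩

variable [Finite F]

/-- The radical permutes its orbit regularly, so fixed points are centraliser elements. -/
theorem orbFix_fixing (hg : g ∈ parG F C K)
    (hfix : g • pt C F (mTop C K) (dTop C K) = pt C F (mTop C K) (dTop C K)) :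
    (OrbFix C F K (mTop C K) (dTop C K) g).ncard =
      Nat.card ↥(uG C F (radK C K) ⊓ Subgroup.centralizer {g}) := by
  set p0 := pt C F (mTop C K) (dTop C K) with hp0
  have himage : (fun u => u • p0) ''
      ((uG C F (radK C K) ⊓ Subgroup.centralizer {g} : Subgroup ↥(D.group F)) : Set ↥(D.group F)) =
        OrbFix C F K (mTop C K) (dTop C K) g := by
    ext x
    constructor
    · rintro ⟨u, hu, rfl⟩
      obtain ⟨hu1, hu2⟩ := Subgroup.mem_inf.1 hu
      refine ⟨⟨u, borG_le_parG (radK_le_borG H hu1), rfl⟩, ?_⟩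
      have hc : u * g = g * u := Subgroup.mem_centralizer_singleton_iff.1 hu2
      rw [← mul_smul, ← hc, mul_smul, hfix]
    · rintro ⟨hx, hgx⟩
      obtain ⟨u, hu, rfl⟩ := exists_rad_fix H dTop_red (top_full H) hx
      refine ⟨u, Subgroup.mem_inf.2 ⟨hu, ?_⟩, rfl⟩
      have h1 : u⁻¹ * (g * u * g⁻¹) ∈ uG C F (radK C K) :=
        mul_mem (inv_mem hu) (parG_normalizes H hg hu)
      have hfix' : g⁻¹ • p0 = p0 := inv_smul_eq_iff.2 hfix.symm
      have h2 := rad_free H h1 (by
        rw [← hp0, mul_smul, mul_smul, mul_smul, hfix', hgx, inv_smul_smul])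
      rw [inv_mul_eq_one, eq_mul_inv_iff_mul_eq] at h2
      exact Subgroup.mem_centralizer_singleton_iff.2 h2
  rw [← himage, Set.InjOn.ncard_image, ← Nat.card_coe_set_eq]
  · rfl
  · intro u hu v hv e
    have h := rad_free H (mul_mem (inv_mem (Subgroup.mem_inf.1 hv).1) (Subgroup.mem_inf.1 hu).1)
      (by rw [← hp0, mul_smul, show u • p0 = v • p0 from e, inv_smul_smul])
    rw [inv_mul_eq_one] at h
    exact h.symm

/-- A fixed point in the top orbit gives the value as the order of a p-subgroup of the centraliser. -/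
theorem orbFix_eq_card (hg : g ∈ parG F C K)
    (hne : (OrbFix C F K (mTop C K) (dTop C K) g).Nonempty) :
    ∃ u ∈ uG C F (radK C K), (OrbFix C F K (mTop C K) (dTop C K) g).ncard =
      Nat.card ↥(uG C F (radK C K) ⊓ Subgroup.centralizer {u⁻¹ * g * u}) := by
  obtain ⟨x, hx, hgx⟩ := hne
  obtain ⟨u, hu, rfl⟩ := exists_rad_fix H dTop_red (top_full H) hx
  have hu' : u ∈ parG F C K := borG_le_parG (radK_le_borG H hu)
  refine ⟨u, hu, ?_⟩
  rw [← orbFix_fixing H (mul_mem (mul_mem (inv_mem hu') hg) hu')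
    (by rw [mul_smul, mul_smul, hgx, inv_smul_smul])]
  rw [← Set.ncard_image_of_injective (OrbFix C F K (mTop C K) (dTop C K) (u⁻¹ * g * u))
    (MulAction.injective u)]
  congr 1
  ext y
  constructor
  · rintro ⟨⟨p, hp, rfl⟩, hy⟩
    refine ⟨u⁻¹ • (p • pt C F (mTop C K) (dTop C K)), ⟨⟨u⁻¹ * p, mul_mem (inv_mem hu') hp, mul_smul _ _ _⟩, ?_⟩,
      smul_inv_smul _ _⟩
    rw [mul_smul, mul_smul, smul_inv_smul, hy]
  · rintro ⟨z, ⟨⟨p, hp, rfl⟩, hz⟩, rfl⟩
    refine ⟨⟨u * p, mul_mem hu' hp, mul_smul _ _ _⟩, ?_⟩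
    rw [mul_smul, mul_smul, inv_smul_eq_iff] at hz
    exact hz

omit H in
/-- Summing a permutation character against a class function. -/
theorem sum_fix_mul {G : Type*} [Group G] [Fintype G] (P : Subgroup G) (f : G → ℤ)
    (hf : ∀ a x, f (a * x * a⁻¹) = f x) :
    ∑ g : G, (Nat.card (MulAction.fixedBy (G ⧸ P) g) : ℤ) * f g =
      (P.index : ℤ) * ∑ h : P, f h := by
  have h1 : ∀ g : G, (Nat.card (MulAction.fixedBy (G ⧸ P) g) : ℤ) * f g =
      ∑ x : G ⧸ P, if g • x = x then f g else 0 := by
    intro g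
    rw [← Finset.sum_filter, Finset.sum_const, nsmul_eq_mul, Nat.card_eq_fintype_card,
      Fintype.card_subtype]
    rfl
  rw [Finset.sum_congr rfl fun g _ => h1 g, Finset.sum_comm, Finset.sum_congr rfl fun x _ => ?_,
    Finset.sum_const, Finset.card_univ, ← Nat.card_eq_fintype_card, nsmul_eq_mul]
  · rfl
  obtain ⟨y, rfl⟩ := QuotientGroup.mk_surjective x
  rw [← Finset.sum_filter]
  symm
  refine Finset.sum_bij (fun (h : P) _ => y * (h : G) * y⁻¹) (fun h _ => ?_) (fun a _ b _ e => ?_)
    (fun g hg => ?_) (fun h _ => ?_)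
  · rw [Finset.mem_filter, MulAction.Quotient.smul_mk, QuotientGroup.eq]
    refine ⟨Finset.mem_univ _, ?_⟩
    simp [mul_assoc]
  · exact Subtype.ext (mul_left_cancel (mul_right_cancel e))
  · rw [Finset.mem_filter, MulAction.Quotient.smul_mk, QuotientGroup.eq] at hg
    refine ⟨⟨y⁻¹ * g * y, ?_⟩, Finset.mem_univ _, by group⟩
    have := inv_mem hg.2
    simpa [mul_assoc] using this
  · rw [hf]

/-- The number of orbits of P_K on G/P_M. -/
theorem sum_fixCount_parG (K M : Set (Fin D.rank)) [Fintype ↥(parG F C K)] :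
    ∑ h : ↥(parG F C K), fixCount C F M (h : ↥(D.group F)) =
      Nat.card {d : Equiv.Perm (Rt D) // IsRed C K M d} * Fintype.card ↥(parG F C K) := by
  haveI : Fintype (↥(D.group F) ⧸ parG F C M) := Fintype.ofFinite _
  have hB := MulAction.sum_card_fixedBy_eq_card_orbits_mul_card_group ↥(parG F C K)
    (↥(D.group F) ⧸ parG F C M)
  have h1 : ∀ h : ↥(parG F C K), fixCount C F M (h : ↥(D.group F)) =
      Fintype.card (MulAction.fixedBy (↥(D.group F) ⧸ parG F C M) h) := fun h => by
    rw [← Nat.card_eq_fintype_card]; rfl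
  rw [Finset.sum_congr rfl fun h _ => h1 h, hB, ← Nat.card_eq_fintype_card]
  congr 1
  set X := ↥(D.group F) ⧸ parG F C M
  let f : {d : Equiv.Perm (Rt D) // IsRed C K M d} →
      Quotient (MulAction.orbitRel ↥(parG F C K) X) := fun d => Quotient.mk'' (pt C F M d.1)
  refine (Nat.card_eq_of_bijective f ⟨fun a b e => ?_, fun q => ?_⟩).symm
  · obtain ⟨⟨p, hp⟩, hp'⟩ := MulAction.orbitRel_apply.1 (Quotient.eq''.1 e)
    exact Subtype.ext (orb_unique H a.2 b.2 (x := pt C F M a.1) ⟨1, one_mem _, one_smul _ _⟩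
      ⟨p, hp, hp'⟩)
  · induction q using Quotient.inductionOn' with
    | h x =>
      obtain ⟨d, hd, p, hp, e⟩ := exists_mem_orb H (K := K) x
      refine ⟨⟨d, hd⟩, Quotient.eq''.2 (MulAction.orbitRel_apply.2 ⟨(⟨p, hp⟩ : ↥(parG F C K))⁻¹, ?_⟩)⟩
      show p⁻¹ • x = pt C F M d
      rw [← e, inv_smul_smul]

omit [Finite F] in
/-- The alternating count of double cosets. -/
theorem alt_count (K : Finset (Fin D.rank)) :
    ∑ M ∈ (Finset.univ : Finset (Fin D.rank)).powerset, (-1 : ℤ) ^ M.card *
        (Nat.card {d : Equiv.Perm (Rt D) //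
          IsRed C (K : Set (Fin D.rank)) (M : Set (Fin D.rank)) d} : ℤ) =
      if K = ∅ then 1 else 0 := by
  set ds : Finset (Fin D.rank) → Finset (Equiv.Perm (Rt D)) := fun M =>
    Finset.univ.filter fun d => IsRed C (K : Set (Fin D.rank)) (M : Set (Fin D.rank)) d with hds
  set RA : Equiv.Perm (Rt D) → Finset (Fin D.rank) := fun d =>
    Finset.univ.filter fun m => d (C.p m) ∈ C.Pos with hRA
  have h1 : ∀ M : Finset (Fin D.rank), (Nat.card {d : Equiv.Perm (Rt D) //
      IsRed C (K : Set (Fin D.rank)) (M : Set (Fin D.rank)) d} : ℤ) = ∑ _d ∈ ds M, (1 : ℤ) := by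
    intro M
    rw [Nat.card_eq_fintype_card, Fintype.card_subtype, Finset.sum_const, nsmul_eq_mul, mul_one]
  rw [Finset.sum_congr rfl fun M _ => by rw [h1 M, Finset.mul_sum]]
  rw [Finset.sum_comm' (t' := ds ∅) (s' := fun d => (RA d).powerset)]
  · simp only [mul_one]
    simp only [Finset.sum_powerset_neg_one_pow_card]
    rw [← Finset.sum_filter, Finset.sum_const, nsmul_eq_mul, mul_one]
    have hset : (ds ∅).filter (fun d => RA d = ∅) = if K = ∅ then {long C} else ∅ := by
      ext d
      simp only [hds, Finset.mem_filter, Finset.mem_univ, true_and]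
      have hlongRA : RA (long C) = ∅ := Finset.filter_eq_empty_iff.2 fun m _ hp =>
        (C.neg_iff_not_pos _).1 (long_neg (C.p_pos m)) hp
      constructor
      · rintro ⟨⟨hd, hk, -⟩, hra⟩
        have hdl : d = long C := eq_long hd fun i => (C.neg_iff_not_pos _).2 fun hp => by
          have : i ∈ RA d := Finset.mem_filter.2 ⟨Finset.mem_univ _, hp⟩
          rw [hra] at this
          simp at this
        by_cases hK : K = ∅
        · rw [if_pos hK, Finset.mem_singleton, hdl]
        · exfalso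
          obtain ⟨k, hk'⟩ := Finset.nonempty_iff_ne_empty.2 hK
          have := hk k hk'
          rw [hdl] at this
          exact (C.neg_iff_not_pos _).1 (long_inv_neg (C.p_pos k)) this
      · by_cases hK : K = ∅
        · rw [if_pos hK, Finset.mem_singleton]
          rintro rfl
          exact ⟨⟨long_mem, by simp [hK], by simp⟩, hlongRA⟩
        · rw [if_neg hK]; simp
    rw [hset]
    split <;> simp
  · intro M d
    simp only [Finset.mem_powerset, hds, hRA, Finset.mem_filter, Finset.mem_univ, true_and,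
      Finset.subset_univ]
    simp only [IsRed]
    constructor
    · rintro ⟨h1, h2, h3⟩
      exact ⟨fun m hm => by simpa using h3 m hm, h1, h2, by simp⟩
    · rintro ⟨h3, h1, h2, -⟩
      exact ⟨h1, h2, fun m hm => by simpa using h3 hm⟩

end Cfsg.Agent.Lib.Steinberg
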