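import Cfsg.Agent.Lib.ChevStructure.Parabolic
import Cfsg.Agent.Lib.ChevStructure.Poincare

/-!
Weyl group combinatorics for the Steinberg character: parabolic subgroups of W, their longest
elements, double-coset representatives positive on the fundamental roots of K and M.
-/

set_option autoImplicit false
set_option linter.unusedSectionVars false

namespace Cfsg.Agent.Lib.Steinberg

open Cfsg.Lie Cfsg.Agent.Lib.ChevStructure

variable {D : ChevalleyDatum} (C : Core D)

/-- The subgroup of W generated by the fundamental reflections of K. -/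
def WK (K : Set (Fin D.rank)) : Subgroup (Equiv.Perm (Rt D)) := Subgroup.closure (C.sref '' K)

/-- The root subsystem of K. -/
def PhiK (K : Set (Fin D.rank)) : Set (Rt D) := C.PJ (Fin.val '' K)

/-- d is the distinguished element of its double coset W_K d W_M. -/
def IsRed (K M : Set (Fin D.rank)) (d : Equiv.Perm (Rt D)) : Prop :=
  d ∈ C.WG ∧ (∀ k ∈ K, d⁻¹ (C.p k) ∈ C.Pos) ∧ ∀ m ∈ M, d (C.p m) ∈ C.Pos

variable {C}
variable {K M : Set (Fin D.rank)} {σ d : Equiv.Perm (Rt D)} {r : Rt D}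

theorem WK_le_WG : WK C K ≤ C.WG := Subgroup.closure_mono (Set.image_subset_range _ _)

theorem WK_mono {K' : Set (Fin D.rank)} (h : K ⊆ K') : WK C K ≤ WK C K' :=
  Subgroup.closure_mono (Set.image_mono h)

theorem WK_univ : WK C Set.univ = C.WG := by rw [WK, Set.image_univ]; rfl

theorem sref_mem_WK {k : Fin D.rank} (hk : k ∈ K) : C.sref k ∈ WK C K :=
  Subgroup.subset_closure ⟨k, hk, rfl⟩

theorem sref_mem_WG (k : Fin D.rank) : C.sref k ∈ C.WG := Subgroup.subset_closure ⟨k, rfl⟩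

theorem sref_inv (k : Fin D.rank) : (C.sref k)⁻¹ = C.sref k :=
  inv_eq_of_mul_eq_one_right (C.sref_mul_self k)

theorem wg_rev (hσ : σ ∈ C.WG) (r : Rt D) : σ r.rev = (σ r).rev := C.WG_rev ⟨σ, hσ⟩ r

theorem wg_v (hσ : σ ∈ C.WG) (r : Rt D) (m : Fin D.rank) :
    C.v (σ r) m = ∑ k, C.v r k * C.v (σ (C.p k)) m := by
  obtain ⟨L, rfl⟩ := C.mem_WG_iff.1 hσ
  exact C.pprod_v L r m

theorem p_mem_PhiK {k : Fin D.rank} (hk : k ∈ K) : C.p k ∈ PhiK C K :=
  C.p_mem_PJ ⟨k, hk, rfl⟩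

theorem PhiK_rev' (h : r ∈ PhiK C K) : r.rev ∈ PhiK C K := C.PJ_rev h

theorem PhiK_iff : r ∈ PhiK C K ↔ ∀ i, i ∉ K → C.v r i = 0 := by
  have hmem : ∀ i : Fin D.rank, (i : ℕ) ∈ Fin.val '' K ↔ i ∈ K := fun i => by simp [Fin.val_inj]
  constructor
  · exact fun h i hi => C.v_zero_of_PJ h (fun h' => hi ((hmem i).1 h'))
  · intro h
    rcases Classical.em (r ∈ C.Pos) with hr | hr
    · exact C.mem_PJ.2 fun i hi => (C.v_eq_zero_iff hr i).1 (h i fun h' => hi ((hmem i).2 h'))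
    · have hr' := C.rev_pos ((C.neg_iff_not_pos r).2 hr)
      have : r.rev ∈ PhiK C K := C.mem_PJ.2 fun i hi => (C.v_eq_zero_iff hr' i).1 (by
        simp [C.v_rev, h i fun h' => hi ((hmem i).2 h')])
      have h2 := PhiK_rev' this
      rwa [C.rev_rev] at h2

theorem PhiK_rev (h : r ∈ PhiK C K) : r.rev ∈ PhiK C K := C.PJ_rev h

theorem PhiK_mono {K' : Set (Fin D.rank)} (h : K ⊆ K') : PhiK C K ⊆ PhiK C K' :=
  fun r hr => PhiK_iff.2 fun i hi => PhiK_iff.1 hr i fun h' => hi (h h')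

theorem p_mem_PhiK_iff {k : Fin D.rank} : C.p k ∈ PhiK C K ↔ k ∈ K := by
  refine ⟨fun h => ?_, p_mem_PhiK⟩
  by_contra hk
  have := PhiK_iff.1 h k hk
  simp [C.v_p] at this

/-- An element positive on the fundamental roots of K is positive on Φ_K⁺. -/
theorem pos_on_PhiK (hσ : σ ∈ C.WG) (h : ∀ k ∈ K, σ (C.p k) ∈ C.Pos) :
    ∀ r ∈ C.Pos, r ∈ PhiK C K → σ r ∈ C.Pos := by
  intro r hr hrK
  by_contra hn
  have hneg := (C.neg_iff_not_pos _).2 hn
  refine C.v_ne_zero (σ r) (funext fun m => le_antisymm (C.v_nonpos hneg m) ?_)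
  rw [wg_v hσ]
  refine Finset.sum_nonneg fun j _ => ?_
  by_cases hj : j ∈ K
  · exact mul_nonneg (C.v_nonneg hr j) (C.v_nonneg (h j hj) m)
  · simp [PhiK_iff.1 hrK j hj]

/-- An element negative on the fundamental roots of K is negative on Φ_K⁺. -/
theorem neg_on_PhiK (hσ : σ ∈ C.WG) (h : ∀ k ∈ K, σ (C.p k) ∈ C.Neg) :
    ∀ r ∈ C.Pos, r ∈ PhiK C K → σ r ∈ C.Neg := by
  intro r hr hrK
  rw [C.neg_iff_not_pos]
  intro hp
  refine C.v_ne_zero (σ r) (funext fun m => le_antisymm ?_ (C.v_nonneg hp m))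
  rw [wg_v hσ]
  refine Finset.sum_nonpos fun j _ => ?_
  by_cases hj : j ∈ K
  · exact mul_nonpos_of_nonneg_of_nonpos (C.v_nonneg hr j) (C.v_nonpos (h j hj) m)
  · simp [PhiK_iff.1 hrK j hj]

theorem WK_v (hσ : σ ∈ WK C K) : ∀ (r : Rt D) (i : Fin D.rank), i ∉ K → C.v (σ r) i = C.v r i := by
  induction hσ using Subgroup.closure_induction with
  | mem x hx =>
    obtain ⟨k, hk, rfl⟩ := hx
    intro r i hi
    have hne : i ≠ k := fun e => hi (e ▸ hk)
    simp [Core.sref_apply, C.v_w, hne]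
  | one => intro r i _; rfl
  | mul x y _ _ hx hy => intro r i hi; rw [Equiv.Perm.mul_apply, hx _ i hi, hy r i hi]
  | inv x _ hx =>
    intro r i hi
    have := hx (x⁻¹ r) i hi
    rw [Equiv.Perm.inv_def, Equiv.apply_symm_apply] at this
    rw [Equiv.Perm.inv_def, this]

theorem WK_PhiK (hσ : σ ∈ WK C K) : σ r ∈ PhiK C K ↔ r ∈ PhiK C K := by
  simp only [PhiK_iff]
  exact ⟨fun h i hi => by rw [← WK_v hσ r i hi]; exact h i hi,
    fun h i hi => by rw [WK_v hσ r i hi]; exact h i hi⟩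

/-- W_K permutes the positive roots outside Φ_K. -/
theorem WK_pos (hσ : σ ∈ WK C K) (hr : r ∈ C.Pos) (hrK : r ∉ PhiK C K) :
    σ r ∈ C.Pos ∧ σ r ∉ PhiK C K := by
  refine ⟨?_, fun h => hrK ((WK_PhiK hσ).1 h)⟩
  simp only [PhiK_iff, not_forall] at hrK
  obtain ⟨i, hi, hne⟩ := hrK
  refine C.pos_of_coord (m := i) ?_
  rw [WK_v hσ r i hi]
  have := C.v_nonneg hr i
  omega

/-- Only the identity is positive on every fundamental root. -/
theorem eq_one_of_pos (hσ : σ ∈ C.WG) (h : ∀ i, σ (C.p i) ∈ C.Pos) : σ = 1 := by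
  refine C.eq_one_of_len_zero hσ ?_
  rw [Core.len, Set.ncard_eq_zero]
  refine Set.eq_empty_of_forall_notMem fun r hr => ?_
  refine (C.neg_iff_not_pos _).1 hr.2 (pos_on_PhiK (K := Set.univ) hσ (fun k _ => h k) r hr.1 ?_)
  exact PhiK_iff.2 fun i hi => absurd trivial hi

theorem exists_desc (hσ : σ ∈ WK C K) (h : σ ≠ 1) : ∃ k ∈ K, σ (C.p k) ∈ C.Neg := by
  by_contra hc
  push Not at hc
  refine h (eq_one_of_pos (WK_le_WG hσ) fun i => ?_)
  by_cases hi : i ∈ K
  · by_contra hn; exact hc i hi ((C.neg_iff_not_pos _).2 hn)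
  · exact (WK_pos hσ (C.p_pos i) (fun h' => hi (p_mem_PhiK_iff.1 h'))).1

theorem sref_apply_p (i : Fin D.rank) : C.sref i (C.p i) = (C.p i).rev := by
  rw [Core.sref_apply, C.w_p]

theorem len_mul_sref (hσ : σ ∈ C.WG) {i : Fin D.rank} (h : σ (C.p i) ∈ C.Pos) :
    C.len (σ * C.sref i) = C.len σ + 1 := C.len_mul_sref_pos (wg_rev hσ) h

theorem len_mul_sref_neg (hσ : σ ∈ C.WG) {i : Fin D.rank} (h : σ (C.p i) ∈ C.Neg) :
    C.len (σ * C.sref i) + 1 = C.len σ := by
  have h2 : (σ * C.sref i) (C.p i) ∈ C.Pos := by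
    rw [Equiv.Perm.mul_apply, sref_apply_p, wg_rev hσ]; exact C.rev_pos h
  have := len_mul_sref (mul_mem hσ (sref_mem_WG i)) h2
  rw [mul_assoc, C.sref_mul_self, mul_one] at this
  omega

/-- Induction along descents inside W_K. -/
theorem WK_induction (motive : Equiv.Perm (Rt D) → Prop) (one : motive 1)
    (step : ∀ σ ∈ WK C K, ∀ k ∈ K, σ (C.p k) ∈ C.Neg → motive (σ * C.sref k) → motive σ) :
    ∀ σ ∈ WK C K, motive σ := by
  suffices key : ∀ n, ∀ σ ∈ WK C K, C.len σ = n → motive σ from fun σ hσ => key _ σ hσ rfl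
  intro n
  induction n using Nat.strong_induction_on with
  | _ n ih =>
    intro σ hσ hn
    by_cases h1 : σ = 1
    · exact h1 ▸ one
    obtain ⟨k, hk, hneg⟩ := exists_desc hσ h1
    have := len_mul_sref_neg (WK_le_WG hσ) hneg
    exact step σ hσ k hk hneg (ih _ (by omega) _ (mul_mem hσ (sref_mem_WK hk)) rfl)

variable (C K) in
theorem exists_longK : ∃ w ∈ WK C K, ∀ k ∈ K, w (C.p k) ∈ C.Neg := by
  obtain ⟨w, hw, hmax⟩ := Set.exists_max_image (WK C K : Set (Equiv.Perm (Rt D))) C.len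
    (Set.toFinite _) ⟨1, one_mem _⟩
  refine ⟨w, hw, fun k hk => ?_⟩
  rw [C.neg_iff_not_pos]
  intro hp
  have h1 := len_mul_sref (WK_le_WG hw) hp
  have h2 := hmax _ (mul_mem hw (sref_mem_WK hk))
  omega

variable (C K) in
/-- The longest element of W_K. -/
noncomputable def longK : Equiv.Perm (Rt D) := (exists_longK C K).choose

theorem longK_mem : longK C K ∈ WK C K := (exists_longK C K).choose_spec.1

theorem longK_neg (hr : r ∈ C.Pos) (hrK : r ∈ PhiK C K) : longK C K r ∈ C.Neg :=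
  neg_on_PhiK (WK_le_WG longK_mem) (exists_longK C K).choose_spec.2 r hr hrK

theorem longK_inv_neg (hr : r ∈ C.Pos) (hrK : r ∈ PhiK C K) : (longK C K)⁻¹ r ∈ C.Neg := by
  rw [C.neg_iff_not_pos]
  intro hp
  have := longK_neg hp ((WK_PhiK (inv_mem longK_mem)).2 hrK)
  rw [Equiv.Perm.inv_def, Equiv.apply_symm_apply] at this
  exact (C.neg_iff_not_pos _).1 this hr

variable (C) in
/-- The longest element of W. -/
noncomputable abbrev long : Equiv.Perm (Rt D) := longK C Set.univ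

theorem mem_PhiK_univ (r : Rt D) : r ∈ PhiK C Set.univ :=
  PhiK_iff.2 fun _ hi => absurd trivial hi

theorem long_mem : long C ∈ C.WG := WK_le_WG longK_mem

theorem long_neg (hr : r ∈ C.Pos) : long C r ∈ C.Neg := longK_neg hr (mem_PhiK_univ r)

theorem long_inv_neg (hr : r ∈ C.Pos) : (long C)⁻¹ r ∈ C.Neg := longK_inv_neg hr (mem_PhiK_univ r)

theorem eq_long (hσ : σ ∈ C.WG) (h : ∀ i, σ (C.p i) ∈ C.Neg) : σ = long C := by
  have h1 : ∀ i, (σ⁻¹ * long C)⁻¹ (C.p i) ∈ C.Pos := by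
    intro i
    rw [mul_inv_rev, inv_inv, Equiv.Perm.mul_apply]
    have := long_inv_neg (C := C) (C.rev_pos (h i))
    rw [wg_rev (inv_mem long_mem)] at this
    simpa [C.rev_rev] using C.rev_pos this
  have := eq_one_of_pos (inv_mem (mul_mem (inv_mem hσ) long_mem)) h1
  rwa [inv_eq_one, inv_mul_eq_one] at this

/-- If σ has constant sign ε on Φ_A⁺ and sends a root of it to ± a fundamental root, that root
is fundamental. -/
theorem fundamental_of_sign {A' : Set (Fin D.rank)} (hd : d ∈ C.WG) (ε : ℤ)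
    (hsgn : ∀ s ∈ C.Pos, s ∈ PhiK C A' → ∀ m, 0 ≤ ε * C.v (d s) m) (hε : ε ≠ 0)
    (hr : r ∈ C.Pos) (hrA : r ∈ PhiK C A') {j : Fin D.rank}
    (hj : ∀ m, ε * C.v (d r) m = C.v (C.p j) m) : ∃ m ∈ A', r = C.p m := by
  by_contra hno
  push Not at hno
  obtain ⟨i, hco, hA⟩ := C.exists_lower hr
  have hiA : i ∈ A' := by
    by_contra hi
    have := (C.v_eq_zero_iff hr i).1 (PhiK_iff.1 hrA i hi)
    omega
  have hs : C.w i r ∈ C.Pos := C.w_pos hr (hno i hiA)
  have hsA : C.w i r ∈ PhiK C A' := (WK_PhiK (sref_mem_WK hiA)).2 hrA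
  set c := _root_.Cfsg.Agent.Lib.ChevStructure.A D i r with hc
  have e : ∀ m, C.v (C.p j) m =
      ε * C.v (d (C.w i r)) m + c * (ε * C.v (d (C.p i)) m) := by
    intro m
    rw [← hj, wg_v hd, wg_v hd (C.w i r)]
    simp only [C.v_w, Pi.sub_apply, Pi.smul_apply, smul_eq_mul, sub_mul, Finset.sum_sub_distrib]
    rw [Finset.sum_eq_single (f := fun k => c *
      (Pi.single i 1 : Fin D.rank → ℤ) k * C.v (d (C.p k)) m) i
      (fun k _ hk => by simp [hk]) (by simp)]
    simp only [Pi.single_eq_same, mul_one]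
    ring
  have hz : ∀ m, m ≠ j → ε * C.v (d (C.w i r)) m = 0 ∧ ε * C.v (d (C.p i)) m = 0 := by
    intro m hm
    have h1 := e m
    have h2 := hsgn _ hs hsA m
    have h3 := hsgn _ (C.p_pos i) (p_mem_PhiK hiA) m
    rw [C.v_p, Pi.single_eq_of_ne hm] at h1
    have h4 : ε * C.v (d (C.p i)) m ≤ c * (ε * C.v (d (C.p i)) m) := le_mul_of_one_le_left h3 hA
    omega
  have hj1 : ∀ s ∈ C.Pos, s ∈ PhiK C A' → (∀ m, m ≠ j → ε * C.v (d s) m = 0) →
      1 ≤ ε * C.v (d s) j := by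
    intro s hs' hsA' hz'
    by_contra hlt
    refine C.v_ne_zero (d s) (funext fun m => ?_)
    have h0 : ε * C.v (d s) m = 0 := by
      by_cases hm : m = j
      · subst hm; have := hsgn s hs' hsA' m; omega
      · exact hz' m hm
    simpa [hε] using h0
  have h1 := e j
  have h2 := hj1 _ hs hsA fun m hm => (hz m hm).1
  have h3 := hj1 _ (C.p_pos i) (p_mem_PhiK hiA) fun m hm => (hz m hm).2
  rw [C.v_p, Pi.single_eq_same] at h1
  nlinarith

theorem fundamental_of_image {A' : Set (Fin D.rank)} (hd : d ∈ C.WG)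
    (hpos : ∀ a ∈ A', d (C.p a) ∈ C.Pos) (hr : r ∈ C.Pos) (hrA : r ∈ PhiK C A') {j : Fin D.rank}
    (hj : d r = C.p j) : ∃ m ∈ A', r = C.p m :=
  fundamental_of_sign hd 1 (fun s hs hsA m => by
    rw [one_mul]; exact C.v_nonneg (pos_on_PhiK hd hpos s hs hsA) m) one_ne_zero hr hrA
    (fun m => by rw [one_mul, hj])

/-- Exchange, deleting a letter of the word. -/
theorem exchange_sublist : ∀ (L : List (Fin D.rank)) (i : Fin D.rank), C.pprod L (C.p i) ∈ C.Neg →
    ∃ L', L'.Sublist L ∧ L'.length + 1 = L.length ∧ C.pprod L * C.sref i = C.pprod L'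
  | [], i, h => absurd h (fun h => (C.neg_iff_not_pos _).1 h (C.p_pos i))
  | j :: L, i, h => by
    by_cases hr : C.pprod L (C.p i) ∈ C.Pos
    · rw [C.pprod_cons, Equiv.Perm.mul_apply, C.sref_apply] at h
      have hj : C.pprod L (C.p i) = C.p j := C.eq_p_of_w_neg hr h
      refine ⟨L, List.sublist_cons_self j L, rfl, ?_⟩
      rw [C.pprod_cons, mul_assoc]
      have e : C.pprod L * C.sref i = C.sref j * C.pprod L := by
        refine Equiv.ext fun s => ?_
        simp only [Equiv.Perm.mul_apply, Core.sref_apply]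
        refine C.v_inj (funext fun m => ?_)
        have hA : _root_.Cfsg.Agent.Lib.ChevStructure.A D j (C.pprod L s) =
            _root_.Cfsg.Agent.Lib.ChevStructure.A D i s := by
          rw [← C.pr_p, ← hj, C.pprod_pr, C.pr_p]
        rw [C.pprod_v, C.v_w, C.v_w, hA]
        simp only [Pi.sub_apply, Pi.smul_apply, smul_eq_mul, sub_mul, Finset.sum_sub_distrib,
          ← C.pprod_v L s m]
        congr 1
        rw [Finset.sum_eq_single i (fun k _ hk => by simp [hk]) (by simp), Pi.single_eq_same, mul_one,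
          hj, C.v_p]
      rw [e, ← mul_assoc, C.sref_mul_self, one_mul]
    · obtain ⟨L', hs, hl, hp⟩ := exchange_sublist L i ((C.neg_iff_not_pos _).2 hr)
      exact ⟨j :: L', hs.cons_cons j, by simp [hl], by rw [C.pprod_cons, mul_assoc, hp, ← C.pprod_cons]⟩

theorem exists_reduced_sublist (L : List (Fin D.rank)) :
    ∃ L', L'.Sublist L ∧ C.pprod L' = C.pprod L ∧ L'.length = C.len (C.pprod L) := by
  induction L using List.reverseRecOn with
  | nil => exact ⟨[], List.Sublist.refl _, rfl, by rw [C.pprod_nil, C.len_one]; rfl⟩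
  | append_singleton L i ih =>
    obtain ⟨L₁, hs, hp, hl⟩ := ih
    by_cases h : C.pprod L (C.p i) ∈ C.Pos
    · refine ⟨L₁ ++ [i], hs.append_right [i], by rw [C.pprod_concat, C.pprod_concat, hp], ?_⟩
      rw [C.pprod_concat, C.len_mul_sref_pos (C.pprod_rev L) h, List.length_append, hl]; rfl
    · rw [← hp] at h
      obtain ⟨L₂, hs₂, hl₂, hp₂⟩ := exchange_sublist L₁ i ((C.neg_iff_not_pos _).2 h)
      have h2 := len_mul_sref_neg (C.pprod_mem_WG L₁) ((C.neg_iff_not_pos _).2 h)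
      refine ⟨L₂, (hs₂.trans hs).trans (List.sublist_append_left L [i]), ?_, ?_⟩
      · rw [C.pprod_concat, ← hp, hp₂]
      · rw [C.pprod_concat, ← hp]
        rw [← hp] at hl
        omega

theorem len_le_word (L : List (Fin D.rank)) : C.len (C.pprod L) ≤ L.length := by
  obtain ⟨L', hs, -, hl⟩ := exists_reduced_sublist (C := C) L
  exact hl ▸ hs.length_le

theorem pprod_reverse (L : List (Fin D.rank)) : C.pprod L.reverse = (C.pprod L)⁻¹ := by
  induction L with
  | nil => simp [C.pprod_nil]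
  | cons i L ih => rw [List.reverse_cons, C.pprod_concat, C.pprod_cons, mul_inv_rev, ih, sref_inv]

theorem exists_word (hσ : σ ∈ C.WG) : ∃ L, C.pprod L = σ ∧ L.length = C.len σ := by
  obtain ⟨L, rfl⟩ := C.mem_WG_iff.1 hσ
  obtain ⟨L', -, h1, h2⟩ := exists_reduced_sublist (C := C) L
  exact ⟨L', h1, h2⟩

theorem len_inv (hσ : σ ∈ C.WG) : C.len σ⁻¹ = C.len σ := by
  have key : ∀ σ ∈ C.WG, C.len σ⁻¹ ≤ C.len σ := by
    intro σ hσ
    obtain ⟨L, hp, hl⟩ := exists_word hσ
    have := len_le_word (C := C) L.reverse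
    rwa [pprod_reverse, hp, List.length_reverse, hl] at this
  have h1 := key σ hσ
  have h2 := key σ⁻¹ (inv_mem hσ)
  rw [inv_inv] at h2
  omega

theorem exists_WK_word (hσ : σ ∈ WK C K) : ∃ L, C.pprod L = σ ∧ ∀ i ∈ L, i ∈ K := by
  induction hσ using Subgroup.closure_induction with
  | mem x hx => obtain ⟨i, hi, rfl⟩ := hx; exact ⟨[i], by simp [Core.pprod], by simpa using hi⟩
  | one => exact ⟨[], rfl, by simp⟩
  | mul x y _ _ hx hy =>
    obtain ⟨L, rfl, hL⟩ := hx
    obtain ⟨L', rfl, hL'⟩ := hy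
    exact ⟨L ++ L', C.pprod_append L L', fun i hi => (List.mem_append.1 hi).elim (hL i) (hL' i)⟩
  | inv x _ hx =>
    obtain ⟨L, rfl, hL⟩ := hx
    exact ⟨L.reverse, pprod_reverse L, fun i hi => hL i (List.mem_reverse.1 hi)⟩

theorem red_le_of_double {d' u v : Equiv.Perm (Rt D)} (hd : IsRed C K M d) (hd' : IsRed C K M d')
    (hu : u ∈ WK C K) (hv : v ∈ WK C M) (e : d' = u * d * v) :
    C.len d' ≤ C.len d ∧ (C.len d' = C.len d → d' = d) := by
  obtain ⟨Lu, rfl, hLu⟩ := exists_WK_word hu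
  obtain ⟨Lv, rfl, hLv⟩ := exists_WK_word hv
  obtain ⟨Ld, hdp, hdl⟩ := exists_word hd.1
  obtain ⟨L', hsub, hp, hl⟩ := exists_reduced_sublist (C := C) ((Lu ++ Ld) ++ Lv)
  rw [C.pprod_append, C.pprod_append, hdp, ← e] at hp hl
  obtain ⟨l₁, b, rfl, hl₁, hb⟩ := List.sublist_append_iff.1 hsub
  obtain ⟨a, c, rfl, ha, hc⟩ := List.sublist_append_iff.1 hl₁
  have hb0 : b = [] := by
    rcases List.eq_nil_or_concat b with rfl | ⟨b', m, rfl⟩
    · rfl
    exfalso
    have hm : m ∈ M := hLv m (hb.subset (by simp))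
    have h1 := len_mul_sref hd'.1 (hd'.2.2 m hm)
    have h2 := len_le_word (C := C) (a ++ c ++ b')
    have e' : C.pprod (a ++ c ++ b') = d' * C.sref m := by
      rw [← hp, List.concat_eq_append, ← List.append_assoc, C.pprod_concat, mul_assoc,
        C.sref_mul_self, mul_one]
    rw [e'] at h2
    simp at hl
    simp at h2
    omega
  subst hb0
  rw [List.append_nil] at hp hl
  have ha0 : a = [] := by
    rcases a with _ | ⟨k, a'⟩
    · rfl
    exfalso
    have hk : k ∈ K := hLu k (ha.subset (by simp))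
    have h1 := len_mul_sref (inv_mem hd'.1) (hd'.2.1 k hk)
    rw [len_inv hd'.1] at h1
    have h2 := len_le_word (C := C) (a' ++ c)
    have e' : C.pprod (a' ++ c) = C.sref k * d' := by
      rw [← hp, List.cons_append, C.pprod_cons, ← mul_assoc, C.sref_mul_self, one_mul]
    have h3 : C.len (C.sref k * d') = C.len (d'⁻¹ * C.sref k) := by
      rw [← len_inv (mul_mem (sref_mem_WG k) hd'.1), mul_inv_rev, sref_inv]
    rw [e', h3] at h2
    simp at hl
    simp at h2
    omega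
  subst ha0
  rw [List.nil_append] at hp hl
  refine ⟨?_, fun heq => ?_⟩
  · rw [← hl, ← hdl]; exact hc.length_le
  · have : c = Ld := hc.eq_of_length (by omega)
    rw [← hp, this, hdp]

/-- The distinguished representative of a double coset is unique. -/
theorem red_unique {d' u v : Equiv.Perm (Rt D)} (hd : IsRed C K M d) (hd' : IsRed C K M d')
    (hu : u ∈ WK C K) (hv : v ∈ WK C M) (e : d' = u * d * v) : d' = d := by
  have h1 := red_le_of_double hd hd' hu hv e
  have h2 := red_le_of_double hd' hd (inv_mem hu) (inv_mem hv) (by rw [e]; group)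
  exact h1.2 (by omega)

theorem exists_red (hσ : σ ∈ C.WG) :
    ∃ d u v, IsRed C K M d ∧ u ∈ WK C K ∧ v ∈ WK C M ∧ d = u * σ * v := by
  classical
  obtain ⟨⟨u, v⟩, ⟨hu, hv⟩, hmin⟩ := Set.exists_min_image
    {x : Equiv.Perm (Rt D) × Equiv.Perm (Rt D) | x.1 ∈ WK C K ∧ x.2 ∈ WK C M}
    (fun x => C.len (x.1 * σ * x.2)) (Set.toFinite _) ⟨(1, 1), one_mem _, one_mem _⟩
  have hd : u * σ * v ∈ C.WG := mul_mem (mul_mem (WK_le_WG hu) hσ) (WK_le_WG hv)
  refine ⟨u * σ * v, u, v, ⟨hd, fun k hk => ?_, fun m hm => ?_⟩, hu, hv, rfl⟩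
  · by_contra hn
    have h1 := len_mul_sref_neg (inv_mem hd) ((C.neg_iff_not_pos _).2 hn)
    have h2 := hmin (C.sref k * u, v) ⟨mul_mem (sref_mem_WK hk) hu, hv⟩
    simp only at h2
    have e : C.len (C.sref k * u * σ * v) = C.len ((u * σ * v)⁻¹ * C.sref k) := by
      rw [← len_inv (mul_mem (mul_mem (mul_mem (sref_mem_WG k) (WK_le_WG hu)) hσ) (WK_le_WG hv))]
      simp [mul_inv_rev, sref_inv, mul_assoc]
    rw [e] at h2
    rw [len_inv hd] at h1
    omega
  · by_contra hn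
    have h1 := len_mul_sref_neg hd ((C.neg_iff_not_pos _).2 hn)
    have h2 := hmin (u, v * C.sref m) ⟨hu, mul_mem hv (sref_mem_WK hm)⟩
    simp only [← mul_assoc] at h2
    omega

/-- The fundamental roots of K sent by d⁻¹ into Φ_M. -/
def inter (C : Core D) (K M : Set (Fin D.rank)) (d : Equiv.Perm (Rt D)) : Set (Fin D.rank) :=
  {k | k ∈ K ∧ d⁻¹ (C.p k) ∈ PhiK C M}

/-- W_K ∩ d W_M d⁻¹ is generated by fundamental reflections. -/
theorem mem_WK_inter (hd : IsRed C K M d) : ∀ v ∈ WK C K, d⁻¹ * v * d ∈ WK C M →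
    v ∈ WK C (inter C K M d) := by
  refine WK_induction (fun v => d⁻¹ * v * d ∈ WK C M → v ∈ WK C (inter C K M d))
    (fun _ => one_mem _) ?_
  intro v hv k hk hneg ih hw
  have hkM : d⁻¹ (C.p k) ∈ PhiK C M := by
    by_contra hnot
    obtain ⟨h1, -⟩ := WK_pos hw (hd.2.1 k hk) hnot
    have e : (d⁻¹ * v * d) (d⁻¹ (C.p k)) = d⁻¹ (v (C.p k)) := by simp
    rw [e] at h1
    have h2 := pos_on_PhiK (inv_mem hd.1) hd.2.1 _ (C.rev_pos hneg)
      (PhiK_rev ((WK_PhiK hv).2 (p_mem_PhiK hk)))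
    rw [wg_rev (inv_mem hd.1)] at h2
    exact (C.neg_iff_not_pos _).1 (C.rev_neg h1) h2
  have hmem : C.sref k ∈ WK C (inter C K M d) := sref_mem_WK ⟨hk, hkM⟩
  obtain ⟨m, hm, hdm⟩ := fundamental_of_image (d := d) hd.1 hd.2.2 (hd.2.1 k hk) hkM (j := k)
    (by simp)
  have hconj : d⁻¹ * C.sref k * d ∈ WK C M := by
    have hd' : d (C.p m) = C.p k := by rw [← hdm]; simp
    have e : d * C.sref m = C.sref k * d := by
      obtain ⟨L, hL⟩ := C.mem_WG_iff.1 hd.1
      have h : C.pprod L (C.p m) = C.p k := by rw [hL]; exact hd'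
      refine Equiv.ext fun s => ?_
      simp only [Equiv.Perm.mul_apply, Core.sref_apply]
      rw [← hL]
      refine C.v_inj (funext fun n => ?_)
      have hA : _root_.Cfsg.Agent.Lib.ChevStructure.A D k (C.pprod L s) =
          _root_.Cfsg.Agent.Lib.ChevStructure.A D m s := by
        rw [← C.pr_p, ← h, C.pprod_pr, C.pr_p]
      rw [C.pprod_v, C.v_w, C.v_w, hA]
      simp only [Pi.sub_apply, Pi.smul_apply, smul_eq_mul, sub_mul, Finset.sum_sub_distrib,
        ← C.pprod_v L s n]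
      congr 1
      rw [Finset.sum_eq_single m (fun x _ hx => by simp [hx]) (by simp), Pi.single_eq_same, mul_one,
        h, C.v_p]
    rw [mul_assoc, ← e, ← mul_assoc, inv_mul_cancel, one_mul]
    exact sref_mem_WK hm
  have h3 := ih (by
    have e' : d⁻¹ * (v * C.sref k) * d = (d⁻¹ * v * d) * (d⁻¹ * C.sref k * d) := by group
    rw [e']
    exact mul_mem hw hconj)
  have := mul_mem h3 hmem
  rwa [mul_assoc, C.sref_mul_self, mul_one] at this

variable (C K) in
/-- The distinguished element w_K⁻¹ w₀. -/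
noncomputable def dTop : Equiv.Perm (Rt D) := (longK C K)⁻¹ * long C

variable (C K) in
/-- The fundamental roots carried into K by w_K⁻¹ w₀. -/
def mTop : Set (Fin D.rank) := {m | dTop C K (C.p m) ∈ C.Pos}

theorem dTop_mem : dTop C K ∈ C.WG := mul_mem (inv_mem (WK_le_WG longK_mem)) long_mem

theorem dTop_inv_pos {k : Fin D.rank} (hk : k ∈ K) : (dTop C K)⁻¹ (C.p k) ∈ C.Pos := by
  rw [dTop, mul_inv_rev, inv_inv, Equiv.Perm.mul_apply]
  have h := long_inv_neg (C := C) (C.rev_pos (longK_neg (C.p_pos k) (p_mem_PhiK hk)))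
  rw [wg_rev (inv_mem long_mem)] at h
  simpa [C.rev_rev] using C.rev_pos h

theorem dTop_red : IsRed C K (mTop C K) (dTop C K) :=
  ⟨dTop_mem, fun _ hk => dTop_inv_pos hk, fun _ hm => hm⟩

theorem dTop_mTop {m : Fin D.rank} (hm : m ∈ mTop C K) : ∃ k ∈ K, dTop C K (C.p m) = C.p k := by
  have hK : dTop C K (C.p m) ∈ PhiK C K := by
    by_contra hnot
    have := WK_pos (σ := longK C K) longK_mem hm hnot
    have e : longK C K (dTop C K (C.p m)) = long C (C.p m) := by simp [dTop]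
    rw [e] at this
    exact (C.neg_iff_not_pos _).1 (long_neg (C.p_pos m)) this.1
  exact fundamental_of_image (inv_mem dTop_mem) (fun k hk => dTop_inv_pos hk) hm hK (j := m)
    (by simp)

theorem exists_mTop {k : Fin D.rank} (hk : k ∈ K) : ∃ m ∈ mTop C K, dTop C K (C.p m) = C.p k := by
  have hW : longK C K ∈ C.WG := WK_le_WG longK_mem
  have hn := longK_neg (C.p_pos k) (p_mem_PhiK (C := C) hk)
  obtain ⟨k', -, hk'⟩ := fundamental_of_sign (C := C) (A' := K) (d := (longK C K)⁻¹)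
    (r := (longK C K (C.p k)).rev) (j := k) (inv_mem hW) (-1)
    (fun s hs hsK m => by
      have := C.v_nonpos (longK_inv_neg hs hsK) m
      omega)
    (by norm_num) (C.rev_pos hn) (PhiK_rev ((WK_PhiK longK_mem).2 (p_mem_PhiK hk)))
    (fun m => by rw [wg_rev (inv_mem hW), C.v_rev]; simp)
  have hrp : ((long C)⁻¹ (C.p k')).rev ∈ C.Pos := C.rev_pos (long_inv_neg (C.p_pos k'))
  obtain ⟨m, -, hm⟩ := fundamental_of_sign (C := C) (A' := Set.univ) (d := long C)
    (r := ((long C)⁻¹ (C.p k')).rev) (j := k') long_mem (-1)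
    (fun s hs _ m => by
      have := C.v_nonpos (long_neg hs) m
      omega)
    (by norm_num) hrp (mem_PhiK_univ _)
    (fun m => by rw [wg_rev long_mem, C.v_rev]; simp)
  have e : dTop C K (C.p m) = C.p k := by
    rw [← hm, dTop, Equiv.Perm.mul_apply, wg_rev long_mem, Equiv.Perm.inv_def (long C),
      Equiv.apply_symm_apply, ← hk', C.rev_rev, Equiv.Perm.inv_def, Equiv.symm_apply_apply]
  exact ⟨m, show dTop C K (C.p m) ∈ C.Pos from e ▸ C.p_pos k, e⟩

end Cfsg.Agent.Lib.Steinberg
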